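import Groth.Agent.L21.Weil.Dual
import Groth.Agent.L21.Bundle.Calc
import Groth.Agent.L29.DCoh.Flat

/-!
Bundles finite in the sense of Weil are semistable of degree zero.
-/

set_option autoImplicit false
set_option backward.isDefEq.respectTransparency false
set_option linter.style.haveILetI false
universe u

open CategoryTheory CategoryTheory.Limits AlgebraicGeometry

noncomputable section

namespace Groth.L21.Weil

open Groth.L00.Tensor
open Groth.L21.Bundle

variable {X : Scheme.{u}} [IsIntegral X] [IsLocallyNoetherian X]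
  (k : Type u) [Field k] [X.Over (Spec (CommRingCat.of k))] [IsProper (X ↘ Spec (CommRingCat.of k))]
  (hreg : ∀ x : X, IsRegularLocalRing (X.presheaf.stalk x)) (hd : topologicalKrullDim X = 1)

attribute [local irreducible] dg rk

/-- Degrees of coherent subsheaves are at most `a` times their rank. -/
def UB (M : X.Modules) (a : ℤ) : Prop :=
  ∀ (G : X.Modules) (i : G ⟶ M), Mono i → Coh.IsCoh G → dg k G ≤ a * (rk G : ℤ)

theorem UB.of_mono {M N : X.Modules} {a : ℤ} (h : UB k N a) (j : M ⟶ N) [Mono j] : UB k M a :=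
  fun G i hi hG => haveI := hi; h G (i ≫ j) (mono_comp _ _) hG

theorem UB.mono {M : X.Modules} {a b : ℤ} (h : UB k M a) (hab : a ≤ b) : UB k M b := fun G i hi hG =>
  (h G i hi hG).trans (mul_le_mul_of_nonneg_right hab (Int.natCast_nonneg _))

include hreg hd in
theorem exists_UB {r : ℕ} {M : X.Modules} (hM : FlatMod.IsFinLocFreeOfRank r M) : ∃ a, UB k M a := by
  obtain ⟨N, hN⟩ := exists_dg_bound k hd.le (isCoh_of_rank hM)
  refine ⟨max N 0, fun G i hi hG => ?_⟩
  haveI := hi
  have hl := locFree_of_mono hreg hd.le i hG hM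
  rcases Nat.eq_zero_or_pos (rk G) with h | h
  · rw [h] at hl ⊢
    rw [(zero_facts k hd.le (isZero_of_rank_zero hl)).2]
    simp
  · have h1 := hN G i hi hG
    have h2 : (1 : ℤ) ≤ rk G := by exact_mod_cast h
    nlinarith [le_max_left N 0, le_max_right N 0]

include hd in
theorem UB.sigma {a : ℤ} : ∀ {m : ℕ} {f : Fin m → X.Modules}, (∀ i, Coh.IsCoh (f i)) → (∀ i, UB k (f i) a) → UB k (∐ f) a := by
  intro m
  induction m with
  | zero =>
    intro f _ _ G i hi hG
    haveI := hi
    have hz : IsZero (∐ f) := (IsZero.iff_id_eq_zero _).2 (Sigma.hom_ext _ _ fun i => i.elim0)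
    have hGz : IsZero G := IsZero.of_mono i hz
    rw [(zero_facts k hd.le hGz).1, (zero_facts k hd.le hGz).2]
    simp
  | succ m ih =>
    intro f hc hf G i hi hG
    haveI := hi
    let g : Fin m → X.Modules := fun l => f l.castSucc
    let pl : (∐ f) ⟶ f (Fin.last m) := Sigma.desc fun l => if h : l = Fin.last m then eqToHom (by rw [h]) else 0
    let pg : (∐ f) ⟶ ∐ g := Sigma.desc fun l => Fin.lastCases (motive := fun l => f l ⟶ ∐ g) 0 (fun l => Sigma.ι g l) l
    let jg : (∐ g) ⟶ ∐ f := Sigma.desc fun l => Sigma.ι f l.castSucc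
    have htot : pg ≫ jg + pl ≫ Sigma.ι f (Fin.last m) = 𝟙 (∐ f) := by
      refine Sigma.hom_ext _ _ fun l => ?_
      refine Fin.lastCases ?_ (fun l => ?_) l
      · simp [pg, pl]
      · have hne : (Fin.castSucc l : Fin (m + 1)) ≠ Fin.last m := (Fin.castSucc_lt_last l).ne
        simp [pg, pl, jg, g, hne]
    haveI : Mono (kernel.ι (i ≫ pl) ≫ i ≫ pg) := by
      suffices hfac : (kernel.ι (i ≫ pl) ≫ i ≫ pg) ≫ jg = kernel.ι (i ≫ pl) ≫ i from mono_of_mono_fac hfac
      have h1 : kernel.ι (i ≫ pl) ≫ i ≫ pl = 0 := kernel.condition _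
      have h2 : kernel.ι (i ≫ pl) ≫ i ≫ (pg ≫ jg + pl ≫ Sigma.ι f (Fin.last m)) = kernel.ι (i ≫ pl) ≫ i := by
        rw [htot, Category.comp_id]
      simp only [Preadditive.comp_add, reassoc_of% h1, zero_comp, add_zero] at h2
      simpa only [Category.assoc] using h2
    have hcK := coh_kernel hG (hc _) (i ≫ pl)
    have h1 := ih (f := g) (fun l => hc _) (fun l => hf _) _ (kernel.ι (i ≫ pl) ≫ i ≫ pg) inferInstance hcK
    have h2 := hf _ _ (Abelian.image.ι (i ≫ pl)) inferInstance (coh_image hG (hc _) _)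
    obtain ⟨e1, e2⟩ := add_image k hd.le (i ≫ pl) hG (hc _)
    rw [e1, e2]
    push_cast
    linarith

include hd in
theorem dg_tensor {a b : ℕ} {A B : X.Modules} (hA : FlatMod.IsFinLocFreeOfRank a A) (hB : FlatMod.IsFinLocFreeOfRank b B) :
    dg k (CohB1.tensorMod A B) = (b : ℤ) * dg k A + (a : ℤ) * dg k B := by
  have hcB := isCoh_of_rank hB
  have h := Groth.L22.CurveDeg.phi_eq_of_integral k hd hA hcB
  rw [len_eq_rk hcB, rk_eq hB, Groth.L22.CurveDeg.phi] at h
  rw [← dg_eq k (rk_tensor hA hB), ← dg_eq k hA, ← dg_eq k hB]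
  simp only [Curv2.deg] at h ⊢
  push_cast at h ⊢
  linear_combination h

omit [IsLocallyNoetherian X] in
theorem mono_tensor {A A' B B' : X.Modules} (hA' : FlatMod.IsFinLocFree A') (hB : FlatMod.IsFinLocFree B)
    (f : A ⟶ A') [Mono f] (g : B ⟶ B') [Mono g] : Mono (tensorMap f g) := by
  haveI := Groth.L17.ChangeRings.preservesMono_tensorLeftF (Groth.L29.DC.isFlat_of_isFinLocFree hA')
  haveI := Groth.L17.ChangeRings.preservesMono_tensorLeftF (Groth.L29.DC.isFlat_of_isFinLocFree hB)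
  haveI : (tensorRightF B).PreservesMonomorphisms := Functor.preservesMonomorphisms.of_iso (tensorFlipIso B).symm
  haveI : Mono (tensorMap f (𝟙 B)) := (tensorRightF B).map_mono f
  haveI : Mono (tensorMap (𝟙 A') g) := (tensorLeftF A').map_mono g
  have h : tensorMap f g = tensorMap f (𝟙 B) ≫ tensorMap (𝟙 A') g := by
    rw [← tensorMap_comp, Category.comp_id, Category.id_comp]
  rw [h]
  exact mono_comp _ _

include hreg hd in
/-- Subsheaves of a bundle with bounded powers have nonpositive degree. -/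
theorem dg_le_zero_of_allPow {E F : X.Modules} (hE : IsBundle E) (h : AllPow E) {r' : ℕ} (hr' : 0 < r')
    (hF : FlatMod.IsFinLocFreeOfRank r' F) (i : F ⟶ E) [Mono i] : dg k F ≤ 0 := by
  classical
  obtain ⟨s, B, hB, hpow⟩ := h
  choose rB hrB using hB
  choose a ha using fun b => exists_UB k hreg hd (hrB b)
  obtain ⟨N, hN⟩ := Finite.exists_le a
  have hbd : ∀ n, UB k (CohB1.tensorPow E n) N := fun n => by
    obtain ⟨m, c, j, p, hjp⟩ := hpow n
    haveI : Mono j := mono_of_mono_fac hjp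
    exact UB.of_mono k (UB.sigma k hd (fun l => isCoh_of_rank (hrB _)) fun l => (ha _).mono k (hN _)) j
  have hEf : FlatMod.IsFinLocFree E := hE.elim fun r hr => Groth.L22.CurveDeg.isFinLocFree_of_rank hr
  have hpowF : ∀ n : ℕ, FlatMod.IsFinLocFreeOfRank (r' ^ n) (CohB1.tensorPow F n) ∧
      (∃ j : CohB1.tensorPow F n ⟶ CohB1.tensorPow E n, Mono j) ∧
      dg k (CohB1.tensorPow F n) * (r' : ℤ) = (n : ℤ) * (r' : ℤ) ^ n * dg k F := by
    intro n
    induction n with
    | zero =>
      have hO := locFree_one (Groth.L18.Ample.isInvertible_structureModule X)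
      refine ⟨hO, ⟨𝟙 _, inferInstance⟩, ?_⟩
      show dg k (Coh.structureModule X) * _ = _
      rw [← dg_eq k hO, Curv2.deg]
      simp
    | succ n ih =>
      obtain ⟨h1, ⟨j, hj⟩, h3⟩ := ih
      refine ⟨by rw [pow_succ]; exact rk_tensor h1 hF, ⟨tensorMap j i, ?_⟩, ?_⟩
      · haveI := hj
        obtain ⟨r, hr⟩ := isBundle_pow hE n
        exact mono_tensor (Groth.L22.CurveDeg.isFinLocFree_of_rank hr) (Groth.L22.CurveDeg.isFinLocFree_of_rank hF) j i
      · show dg k (CohB1.tensorMod (CohB1.tensorPow F n) F) * _ = _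
        rw [dg_tensor k hd h1 hF]
        push_cast
        rw [pow_succ]
        linear_combination (r' : ℤ) * h3
  by_contra hcon
  let n := N.toNat * r' + 1
  obtain ⟨h1, ⟨j, hj⟩, h3⟩ := hpowF n
  have h4 := hbd n _ j hj (isCoh_of_rank h1)
  rw [rk_eq h1] at h4
  push_cast at h4
  have hr : (1 : ℤ) ≤ r' := by exact_mod_cast hr'
  have hp : (0 : ℤ) < (r' : ℤ) ^ n := by positivity
  have h5 : (n : ℤ) * (r' : ℤ) ^ n * dg k F ≤ N * (r' : ℤ) ^ n * r' := by
    rw [← h3]; exact mul_le_mul_of_nonneg_right h4 (by omega)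
  have h6 : (n : ℤ) * dg k F ≤ N * r' := le_of_mul_le_mul_right (by linarith) hp
  have h7 : (n : ℤ) = (N.toNat : ℤ) * r' + 1 := by simp [n]
  have h8 : (N : ℤ) * r' ≤ (N.toNat : ℤ) * r' := mul_le_mul_of_nonneg_right (Int.self_le_toNat N) (by omega)
  nlinarith

include hreg hd in
theorem semistable_of_closed {r : ℕ} (hr : 0 < r) {E : X.Modules} (hE : FlatMod.IsFinLocFreeOfRank r E)
    (h : Closed E) (hdual : dg k (D E) = -dg k E) :
    Curv2.deg k X E r = 0 ∧ ∀ (F : X.Modules) (r' : ℕ) (i : F ⟶ E), Mono i → 0 < r' →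
      FlatMod.IsFinLocFreeOfRank r' F → Curv2.deg k X F r' * (r : ℤ) ≤ Curv2.deg k X E r * (r' : ℤ) := by
  have hEb : IsBundle E := ⟨r, hE⟩
  have h1 := dg_le_zero_of_allPow k hreg hd hEb h.allPow hr hE (𝟙 E)
  have hD := isFinLocFreeOfRank_D hE
  have h2 := dg_le_zero_of_allPow k hreg hd ⟨r, hD⟩ (h.dual hEb).allPow hr hD (𝟙 (D E))
  have h0 : Curv2.deg k X E r = 0 := by rw [dg_eq k hE]; omega
  refine ⟨h0, fun F r' i hi hr' hF => ?_⟩
  rw [h0, zero_mul, dg_eq k hF]
  haveI := hi
  exact mul_nonpos_of_nonpos_of_nonneg (dg_le_zero_of_allPow k hreg hd hEb h.allPow hr' hF i) (Int.natCast_nonneg r)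

end Groth.L21.Weil
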