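import Groth.Agent.L21.Weil.Closed
import Groth.Agent.L21.Disc.Cover
import Groth.Agent.L12.FinCov.Trace
import Groth.Agent.L17.ProjFormula

/-!
Isotrivial bundles are finite in characteristic zero.
-/

set_option autoImplicit false
set_option backward.isDefEq.respectTransparency false
set_option backward.isDefEq.respectTransparency.types false
set_option linter.style.haveILetI false
universe u

open CategoryTheory CategoryTheory.Limits AlgebraicGeometry TopologicalSpace Opposite

noncomputable section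

namespace Groth.L21.Weil

open Groth.L00.Tensor
open Groth.L21.Disc (pushO)
open Groth.L12.FinCov (rM rO mkHom app_rM fn_ext exists_isTrace exists_based isTrace_app)

variable {X Y : Scheme.{u}} (f : Y ⟶ X) [IsFinite f]

/-- The algebra of a finite morphism as a module is the direct image. -/
def algIso : (RelSpec.QCAlg.directImage f).toModule ≅ pushO f where
  hom := mkHom (M := (RelSpec.QCAlg.directImage f).toModule) (N := pushO f) (fun _ s => s) (fun _ _ _ => rfl)
    (fun _ _ _ => rfl) (fun _ _ _ _ => rfl)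
  inv := mkHom (M := pushO f) (N := (RelSpec.QCAlg.directImage f).toModule) (fun _ s => s) (fun _ _ _ => rfl)
    (fun _ _ _ => rfl) (fun _ _ _ _ => rfl)
  hom_inv_id := Groth.L12.FinCov.hom_ext fun _ _ => rfl
  inv_hom_id := Groth.L12.FinCov.hom_ext fun _ _ => rfl

/-- In characteristic zero the structure sheaf is a summand of the algebra of a finite flat cover. -/
theorem isRetract_pushO [Surjective f] (k : Type u) [Field k] [CharZero k] [X.Over (Spec (CommRingCat.of k))]
    (hA : FlatMod.IsFinLocFree (pushO f)) : IsRetract (Coh.structureModule X) (pushO f) := by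
  classical
  let A := RelSpec.QCAlg.directImage f
  have hA' : FlatMod.IsFinLocFree A.toModule := fun x => by
    obtain ⟨U, n, hx, ⟨e⟩⟩ := hA x
    exact ⟨U, n, hx, ⟨(Scheme.Modules.restrictFunctor U.ι).mapIso (algIso f) ≪≫ e⟩⟩
  obtain ⟨τ, hτ⟩ := exists_isTrace hA'
  -- value on one
  let one : ∀ U : X.Opens, Γ(A.toModule, U) := fun U => (1 : Γ(Y, f ⁻¹ᵁ U))
  let t : Γ(X, ⊤) := τ.app ⊤ (one ⊤)
  have ht : ∀ U : X.Opens, τ.app U (one U) = rO (le_top : U ≤ ⊤) t := fun U => by
    have h1 := app_rM τ (le_top : U ≤ ⊤) (one ⊤)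
    refine Eq.trans ?_ h1
    congr 1
    exact (map_one (Y.presheaf.map (homOfLE (show f ⁻¹ᵁ U ≤ f ⁻¹ᵁ ⊤ from le_top)).op).hom).symm
  have hu : IsUnit t := by
    refine X.toLocallyRingedSpace.toRingedSpace.isUnit_of_isUnit_germ ⊤ t fun x hx => ?_
    obtain ⟨V, hV, hxV, hVtop, hVb⟩ := exists_based hA' x ⊤ hx
    have h1 := isTrace_app hτ hV hVb (1 : Γ(Y, f ⁻¹ᵁ V))
    obtain ⟨n, b, hb⟩ := hVb
    letI := Groth.L12.FinCov.algS A V
    haveI : Nonempty V := ⟨⟨x, hxV⟩⟩
    haveI : Nontrivial Γ(X, V) := inferInstance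
    let B := hb.basis (le_refl V)
    haveI : Module.Free Γ(X, V) (Groth.L12.FinCov.Sec A V) := Module.Free.of_basis B
    have hn : n ≠ 0 := by
      rintro rfl
      haveI : Subsingleton (Groth.L12.FinCov.Sec A V) := B.equivFun.toEquiv.subsingleton
      obtain ⟨y, hy⟩ := f.surjective x
      haveI : Nonempty (f ⁻¹ᵁ V : Y.Opens) := ⟨⟨y, show f y ∈ V from hy.symm ▸ hxV⟩⟩
      exact one_ne_zero (α := Γ(Y, f ⁻¹ᵁ V)) (Subsingleton.elim (α := Groth.L12.FinCov.Sec A V) _ _)
    have h2 : Groth.L12.FinCov.tr A V (1 : Γ(Y, f ⁻¹ᵁ V)) = (n : Γ(X, V)) := by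
      rw [show (1 : Γ(Y, f ⁻¹ᵁ V)) = algebraMap Γ(X, V) (Groth.L12.FinCov.Sec A V) 1 from (map_one _).symm]
      refine (Algebra.trace_algebraMap _).trans ?_
      rw [Module.finrank_eq_card_basis B, Fintype.card_fin, nsmul_eq_mul, mul_one]
    have h3 : rO (le_top : V ≤ ⊤) t = (n : Γ(X, V)) := (ht V).symm.trans (h1.trans h2)
    let φ : k →+* Γ(X, V) := (((Scheme.ΓSpecIso (CommRingCat.of k)).inv ≫ (X ↘ Spec (CommRingCat.of k)).appTop) ≫
      X.presheaf.map (homOfLE (le_top : V ≤ ⊤)).op).hom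
    have h4 : IsUnit (rO (le_top : V ≤ ⊤) t) := by
      rw [h3, ← map_natCast φ n]
      exact (isUnit_iff_ne_zero.2 (Nat.cast_ne_zero.2 hn)).map φ
    have h5 := h4.map (X.presheaf.germ V x hxV).hom
    rwa [TopCat.Presheaf.germ_res_apply] at h5
  obtain ⟨c, hc⟩ := hu.exists_left_inv
  let i : Coh.structureModule X ⟶ A.toModule := mkHom (M := Coh.structureModule X) (N := A.toModule)
    (fun U r => ((show Γ(X, U) from r) * rO (le_top : U ≤ ⊤) c) • one U)
    (fun U a b => by rw [add_mul, add_smul])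
    (fun U r a => by rw [← mul_smul, ← mul_assoc]; rfl)
    (fun U U' h a => by
      rw [Groth.L12.FinCov.rM_smul]
      refine congrArg₂ (· • ·) ?_ (map_one (Y.presheaf.map (homOfLE (show f ⁻¹ᵁ U' ≤ f ⁻¹ᵁ U from fun _ hy => h hy)).op).hom).symm
      show _ = rO h (_ * rO _ c)
      rw [show rO h ((show Γ(X, U) from a) * rO (le_top : U ≤ ⊤) c) = rO h (show Γ(X, U) from a) * rO h (rO (le_top : U ≤ ⊤) c)
        from map_mul _ _ _, Groth.L12.FinCov.rO_rO]
      rfl)
  refine ⟨i ≫ (algIso f).hom, (algIso f).inv ≫ τ, ?_⟩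
  rw [Category.assoc, Iso.hom_inv_id_assoc]
  refine Groth.L12.FinCov.hom_ext fun U r => ?_
  show τ.app U (((show Γ(X, U) from r) * rO (le_top : U ≤ ⊤) c) • one U) = r
  rw [Scheme.Modules.Hom.app_smul, ht]
  show ((show Γ(X, U) from r) * rO (le_top : U ≤ ⊤) c) * rO (le_top : U ≤ ⊤) t = r
  rw [mul_assoc, ← map_mul, hc, map_one, mul_one]

variable [IsIntegral X] [IsLocallyNoetherian X]

/-- An isotrivial bundle generates a closed family in characteristic zero. -/
theorem closed_of_isotrivial [Flat f] [Surjective f] (k : Type u) [Field k] [CharZero k]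
    [X.Over (Spec (CommRingCat.of k))] {E : X.Modules} (hE : IsBundle E) {r : ℕ}
    (e : (Scheme.Modules.pullback f).obj E ≅ FlatMod.freeMod Y r) : Closed E := by
  classical
  obtain ⟨n, hn⟩ := Groth.L21.Disc.exists_rank_push f
  have hP := Groth.L22.CurveDeg.isFinLocFree_of_rank hn
  have hret := isRetract_pushO f k hP
  have hEf := Groth.L22.CurveDeg.isFinLocFree_of_rank hE.choose_spec
  let B : Fin 2 → X.Modules := ![Coh.structureModule X, pushO f]
  let α : CohB1.tensorMod E (pushO f) ≅ (Scheme.Modules.pushforward f).obj (FlatMod.freeMod Y r) :=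
    (Groth.L17.ProjFormula.projIso f E hEf).app (Coh.structureModule Y) ≪≫
      (Scheme.Modules.pushforward f).mapIso (tensorUnitRight _ ≪≫ e)
  obtain ⟨a, b, -, hab⟩ := Groth.L12.FinCov.exists_split r (Iso.refl (FlatMod.freeMod Y r))
  have hfree : Ret B ((Scheme.Modules.pushforward f).obj (FlatMod.freeMod Y r)) := by
    refine ⟨r, fun _ => 1, ∑ i, (Scheme.Modules.pushforward f).map (b i) ≫ Sigma.ι (fun _ : Fin r => B 1) i,
      Sigma.desc (fun i => (Scheme.Modules.pushforward f).map (a i)), ?_⟩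
    simp only [Preadditive.sum_comp, Category.assoc, Sigma.ι_desc, ← Functor.map_comp]
    rw [← Functor.map_sum, hab, CategoryTheory.Functor.map_id]
  have hEP : Ret B (CohB1.tensorMod E (pushO f)) := hfree.retract (IsRetract.of_iso α)
  refine ⟨2, B, fun i => ?_, ret_member B 0, fun i => ?_⟩
  · fin_cases i
    · exact ⟨1, Groth.L21.Bundle.locFree_one (Groth.L18.Ample.isInvertible_structureModule X)⟩
    · exact ⟨n, hn⟩
  · fin_cases i
    · exact hEP.retract ((hret.tensor (IsRetract.of_iso (Iso.refl E))).trans (IsRetract.of_iso (tensorComm _ _)))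
    · exact hEP.retract (IsRetract.of_iso (tensorComm _ _))

end Groth.L21.Weil
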