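import Groth.Agent.L21.Weil.Dual
import Mathlib.Data.Fintype.Pigeonhole

/-!
Finite line bundles are torsion.
-/

set_option autoImplicit false
set_option backward.isDefEq.respectTransparency false
set_option linter.style.haveILetI false
universe u

open CategoryTheory CategoryTheory.Limits AlgebraicGeometry

noncomputable section

namespace Groth.L21.Weil

open Groth.L00.Tensor
open Groth.L21.Bundle

variable {X : Scheme.{u}}

theorem IsBundle.of_iso {A B : X.Modules} (e : A ≅ B) (h : IsBundle A) : IsBundle B := by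
  obtain ⟨r, hr⟩ := h
  refine ⟨r, fun x => ?_⟩
  obtain ⟨U, hxU, ⟨e'⟩⟩ := hr x
  exact ⟨U, hxU, ⟨(Scheme.Modules.restrictFunctor U.ι).mapIso e.symm ≪≫ e'⟩⟩

variable [IsIntegral X] [IsLocallyNoetherian X]

theorem IsBundle.biprod (hreg : ∀ x : X, IsRegularLocalRing (X.presheaf.stalk x)) (hd : topologicalKrullDim X ≤ 1)
    {A B : X.Modules} (hA : IsBundle A) (hB : IsBundle B) : IsBundle (A ⊞ B) := by
  obtain ⟨a, ha⟩ := hA
  obtain ⟨b, hb⟩ := hB
  exact ⟨a + b, Groth.L21.Bundle.locFree_extension hreg hd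
    (S := ShortComplex.mk (biprod.inl : A ⟶ A ⊞ B) biprod.snd (by simp))
    (ShortComplex.Splitting.shortExact { r := biprod.fst, s := biprod.inr }) ha hb⟩

theorem closed_of_torsion {L : X.Modules} (hL : PicF.IsInvertible L) {m : ℕ} (hm : 0 < m)
    (e : CohB1.tensorPow L m ≅ Coh.structureModule X) : Closed L := by
  refine ⟨m, fun i => CohB1.tensorPow L ↑i, fun i => isBundle_pow ⟨1, locFree_one hL⟩ ↑i,
    ret_member (fun i : Fin m => CohB1.tensorPow L ↑i) ⟨0, hm⟩, fun i => ?_⟩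
  show Ret _ (CohB1.tensorPow L (↑i + 1))
  rcases Nat.lt_or_ge ((i : ℕ) + 1) m with h | h
  · exact ret_member (fun i : Fin m => CohB1.tensorPow L ↑i) ⟨_, h⟩
  · rw [show (i : ℕ) + 1 = m by omega]
    exact (ret_member (fun i : Fin m => CohB1.tensorPow L ↑i) ⟨0, hm⟩).retract (IsRetract.of_iso e)

variable (k : Type u) [Field k] [X.Over (Spec (CommRingCat.of k))] [IsProper (X ↘ Spec (CommRingCat.of k))]
  (hreg : ∀ x : X, IsRegularLocalRing (X.presheaf.stalk x)) (hd : topologicalKrullDim X ≤ 1)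

theorem ind_line {L : X.Modules} (hL : PicF.IsInvertible L) (hreg : ∀ x : X, IsRegularLocalRing (X.presheaf.stalk x))
    (hd : topologicalKrullDim X ≤ 1) : Ind L := by
  have hl := locFree_one hL
  refine ⟨⟨1, hl⟩, not_isZero_of_rank Nat.one_pos hl, fun A B ⟨e⟩ => ?_⟩
  have hrA : IsRetract A L := ⟨biprod.inl ≫ e.inv, e.hom ≫ biprod.fst, by simp⟩
  have hrB : IsRetract B L := ⟨biprod.inr ≫ e.inv, e.hom ≫ biprod.snd, by simp⟩
  obtain ⟨hA, -⟩ := bundle_of_retract hreg hd hl hrA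
  obtain ⟨hB, -⟩ := bundle_of_retract hreg hd hl hrB
  have hT : (ShortComplex.mk (biprod.inl : A ⟶ A ⊞ B) biprod.snd (by simp)).ShortExact :=
    ShortComplex.Splitting.shortExact { r := biprod.fst, s := biprod.inr }
  have h := rk_add hT (Groth.L16.CohSupport.isCoh_of_iso e (isCoh_of_rank hl))
  dsimp only at h
  rw [← rk_iso e, rk_eq hl] at h
  rcases (show rk A = 0 ∨ rk B = 0 by omega) with h0 | h0
  · exact Or.inl (isZero_of_rank_zero (h0 ▸ hA))
  · exact Or.inr (isZero_of_rank_zero (h0 ▸ hB))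

include k hreg hd in
theorem torsion_of_allPow {L : X.Modules} (hL : PicF.IsInvertible L) (h : AllPow L) :
    ∃ m : ℕ, 0 < m ∧ Nonempty (CohB1.tensorPow L m ≅ Coh.structureModule X) := by
  classical
  obtain ⟨s, B, hB, hpow⟩ := h
  choose rB hrB using hB
  choose mB g hg eB using fun b => exists_decomp hreg hd (rB b) (hrB b)
  let G : (Σ b : Fin s, Fin (mB b)) → X.Modules := fun x => g x.1 x.2
  have hex : ∀ n, ∃ x, Nonempty (CohB1.tensorPow L n ≅ G x) := by
    intro n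
    obtain ⟨q, a, ha⟩ := (hpow n).of_forall (B' := G) fun b =>
      (Ret.sigma fun i => ret_member G ⟨b, i⟩).retract (IsRetract.of_iso (eB b).some)
    have hI := ind_line (Groth.L18.Ample.isInvertible_tensorPow hL n) hreg hd
    have hle := cnt_le k hreg hd (fun _ : Fin 1 => CohB1.tensorPow L n) (fun i => G (a i)) (fun i => hg _ _) hI
      ((IsRetract.of_iso (coproductUniqueIso fun _ : Fin 1 => CohB1.tensorPow L n)).trans ha)
    have hpos : 0 < cnt (fun _ : Fin 1 => CohB1.tensorPow L n) (CohB1.tensorPow L n) := by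
      haveI : Nonempty {i : Fin 1 // Nonempty (CohB1.tensorPow L n ≅ CohB1.tensorPow L n)} := ⟨⟨0, ⟨Iso.refl _⟩⟩⟩
      exact Nat.card_pos
    obtain ⟨⟨i, ⟨ei⟩⟩⟩ := (Nat.card_pos_iff.1 (hpos.trans_le hle)).1
    exact ⟨a i, ⟨ei.symm⟩⟩
  choose x hx using hex
  obtain ⟨i, j, hne, hij⟩ := Finite.exists_ne_map_eq_of_infinite x
  wlog hlt : i < j generalizing i j
  · exact this j i hne.symm hij.symm (by omega)
  have e : CohB1.tensorPow L i ≅ CohB1.tensorPow L j := (hx i).some ≪≫ eqToIso (by rw [hij]) ≪≫ (hx j).some.symm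
  obtain ⟨m, rfl⟩ := Nat.exists_eq_add_of_le hlt.le
  obtain ⟨N, hN, ⟨ε⟩⟩ := Groth.L08.Cube.exists_inverse (Groth.L18.Ample.isInvertible_tensorPow hL i)
  let ε' : CohB1.tensorMod N (CohB1.tensorPow L i) ≅ Coh.structureModule X := tensorComm _ _ ≪≫ ε
  exact ⟨m, by omega, ⟨(tensorUnitLeft (CohB1.tensorPow L m)).symm ≪≫ tensorIso ε'.symm (Iso.refl _) ≪≫ tensorAssoc _ _ _ ≪≫
    tensorIso (Iso.refl N) (tensorPowAdd L i m ≪≫ e.symm) ≪≫ ε'⟩⟩

end Groth.L21.Weil
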