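import Groth.Agent.L21.Weil.Slope
import Groth.Agent.L21.Weil.Line
import Mathlib.CategoryTheory.Abelian.DiagramLemmas.KernelCokernelComp

/-!
Tensor products of subquotients of finite bundles.
-/

set_option autoImplicit false
set_option backward.isDefEq.respectTransparency false
set_option linter.style.haveILetI false
universe u

open CategoryTheory CategoryTheory.Limits AlgebraicGeometry

noncomputable section

namespace Groth.L21.Weil

open Groth.L00.Tensor
open Groth.L21.Bundle

variable {X : Scheme.{u}} [IsIntegral X] [IsLocallyNoetherian X]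
  (k : Type u) [Field k] [X.Over (Spec (CommRingCat.of k))] [IsProper (X ↘ Spec (CommRingCat.of k))]
  (hreg : ∀ x : X, IsRegularLocalRing (X.presheaf.stalk x)) (hd : topologicalKrullDim X = 1)

attribute [local irreducible] dg rk

include hreg hd in
theorem ub_zero_of_allPow {E : X.Modules} (hE : IsBundle E) (h : AllPow E) : UB k E 0 := by
  intro G i hi hG
  haveI := hi
  obtain ⟨r, hr⟩ := hE
  have hl := locFree_of_mono hreg hd.le i hG hr
  rw [zero_mul]
  rcases Nat.eq_zero_or_pos (rk G) with h0 | h0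
  · rw [h0] at hl
    rw [(zero_facts k hd.le (isZero_of_rank_zero hl)).2]
  · exact dg_le_zero_of_allPow k hreg hd ⟨r, hr⟩ h h0 hl i

include hd in
/-- Degree zero quotients of bundles without positive subsheaves have no positive subsheaves. -/
theorem ub_zero_of_epi {P Q : X.Modules} (q : P ⟶ Q) [Epi q] (hP : Coh.IsCoh P) (hQ : Coh.IsCoh Q)
    (hPQ : dg k P = dg k Q) (h : UB k P 0) : UB k Q 0 := by
  intro G i hi hG
  haveI := hi
  have hC := coh_cokernel hG hQ i
  haveI : Epi (q ≫ cokernel.π i) := epi_comp _ _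
  obtain ⟨-, h1⟩ := add_cokernel k hd.le i hG hQ
  obtain ⟨-, h2⟩ := add_kernel k hd.le (q ≫ cokernel.π i) hP hC
  have h3 := h _ (kernel.ι (q ≫ cokernel.π i)) inferInstance (coh_kernel hP hC _)
  rw [zero_mul] at h3 ⊢
  omega

include hreg hd in
theorem isBundle_cokernel_comp {A B C : X.Modules} (f : A ⟶ B) (g : B ⟶ C) [Mono g]
    (hf : IsBundle (cokernel f)) (hg : IsBundle (cokernel g)) : IsBundle (cokernel (f ≫ g)) := by
  obtain ⟨a, ha⟩ := hf
  obtain ⟨b, hb⟩ := hg
  haveI : Mono (kernelCokernelCompSequence.snakeInput f g).L₃.f :=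
    (kernelCokernelCompSequence.snakeInput f g).L₂'_exact.mono_g ((isZero_kernel_of_mono g).eq_of_src _ _)
  haveI : Epi (kernelCokernelCompSequence.snakeInput f g).L₃.g := by
    suffices hfac : cokernel.π (f ≫ g) ≫ (kernelCokernelCompSequence.snakeInput f g).L₃.g = cokernel.π g from
      epi_of_epi_fac hfac
    simp
  exact ⟨a + b, locFree_extension hreg hd.le
    (ShortComplex.ShortExact.mk (kernelCokernelCompSequence.snakeInput f g).L₃_exact) ha hb⟩

omit [IsIntegral X] [IsLocallyNoetherian X] in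
theorem additive_tensor (N : X.Modules) : (tensorLeftF N).Additive ∧ (tensorRightF N).Additive := by
  haveI : (Groth.L16.HomSh.homModF N).Additive := ⟨fun {_ _ g g'} => Groth.L16.HomSh.post_add g g'⟩
  haveI : (tensorLeftF N).Additive := (Groth.L16.HomSh.tensorHomAdj N).left_adjoint_additive
  exact ⟨inferInstance, Functor.additive_of_iso (tensorFlipIso N).symm⟩

omit [IsIntegral X] [IsLocallyNoetherian X] in
theorem epi_tensor {A A' B B' : X.Modules} (f : A ⟶ A') [Epi f] (g : B ⟶ B') [Epi g] : Epi (tensorMap f g) := by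
  haveI : (tensorLeftF A').PreservesEpimorphisms :=
    Functor.preservesEpimorphisms_of_adjunction (Groth.L16.HomSh.tensorHomAdj A')
  haveI : (tensorLeftF B).PreservesEpimorphisms :=
    Functor.preservesEpimorphisms_of_adjunction (Groth.L16.HomSh.tensorHomAdj B)
  haveI : (tensorRightF B).PreservesEpimorphisms := Functor.PreservesEpimorphisms.of_iso (tensorFlipIso B).symm
  haveI : Epi (tensorMap f (𝟙 B)) := (tensorRightF B).map_epi f
  haveI : Epi (tensorMap (𝟙 A') g) := (tensorLeftF A').map_epi g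
  have h : tensorMap f g = tensorMap f (𝟙 B) ≫ tensorMap (𝟙 A') g := by
    rw [← tensorMap_comp, Category.comp_id, Category.id_comp]
  rw [h]
  exact epi_comp _ _

include hreg hd in
theorem isBundle_cokernel_tensor {A A' B B' : X.Modules} (hA' : IsBundle A') (hB : IsBundle B)
    (f : A ⟶ A') (g : B ⟶ B') [Mono g] (hf : IsBundle (cokernel f)) (hg : IsBundle (cokernel g)) :
    IsBundle (cokernel (tensorMap f g)) := by
  obtain ⟨r, hr⟩ := hA'
  haveI := Groth.L17.ChangeRings.preservesMono_tensorLeftF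
    (Groth.L29.DC.isFlat_of_isFinLocFree (Groth.L22.CurveDeg.isFinLocFree_of_rank hr))
  haveI := (additive_tensor A').1
  haveI := (additive_tensor B).2
  haveI : PreservesColimit (parallelPair f 0) (tensorRightF B) := by
    haveI : PreservesColimitsOfSize.{0, 0} (tensorRightF B) := preservesColimitsOfSize_shrink.{0, u, 0, u} _
    infer_instance
  haveI : PreservesColimit (parallelPair g 0) (tensorLeftF A') := by
    haveI : PreservesColimitsOfSize.{0, 0} (tensorLeftF A') := preservesColimitsOfSize_shrink.{0, u, 0, u} _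
    infer_instance
  haveI : Mono ((tensorLeftF A').map g) := (tensorLeftF A').map_mono g
  have h : tensorMap f g = (tensorRightF B).map f ≫ (tensorLeftF A').map g := by
    show _ = tensorMap f (𝟙 B) ≫ tensorMap (𝟙 A') g
    rw [← tensorMap_comp, Category.comp_id, Category.id_comp]
  exact IsBundle.of_iso (cokernelIsoOfEq h.symm) (isBundle_cokernel_comp hreg hd _ _
    (IsBundle.of_iso (PreservesCokernel.iso (tensorRightF B) f) (hf.tensor hB))
    (IsBundle.of_iso (PreservesCokernel.iso (tensorLeftF A') g) (IsBundle.tensor ⟨r, hr⟩ hg)))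

include hreg hd in
/-- The tensor product of two degree zero subquotients of finite bundles. -/
theorem tensor_subquot {s s' a a' r r' : ℕ} {G G' F F' E E' : X.Modules}
    (hG : FlatMod.IsFinLocFreeOfRank s G) (hG' : FlatMod.IsFinLocFreeOfRank s' G') (hcl : Closed G) (hcl' : Closed G')
    (hF : FlatMod.IsFinLocFreeOfRank a F) (hF' : FlatMod.IsFinLocFreeOfRank a' F')
    (hE : FlatMod.IsFinLocFreeOfRank r E) (hE' : FlatMod.IsFinLocFreeOfRank r' E')
    (i : F ⟶ G) [Mono i] (i' : F' ⟶ G') [Mono i'] (hi : IsBundle (cokernel i)) (hi' : IsBundle (cokernel i'))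
    (π : F ⟶ E) [Epi π] (π' : F' ⟶ E') [Epi π']
    (hdF : dg k F = 0) (hdF' : dg k F' = 0) (hdE : dg k E = 0) (hdE' : dg k E' = 0) :
    (dg k (CohB1.tensorMod E E') = 0 ∧ UB k (CohB1.tensorMod E E') 0) ∧
    ∃ (t : ℕ) (K : X.Modules) (j : CohB1.tensorMod F F' ⟶ CohB1.tensorMod G G') (l : K ⟶ CohB1.tensorMod F F'),
      FlatMod.IsFinLocFreeOfRank t K ∧ Mono j ∧ Mono l ∧ IsBundle (cokernel j) ∧ IsBundle (cokernel l) ∧
      (dg k (CohB1.tensorMod F F') = 0 ∧ UB k (CohB1.tensorMod F F') 0) ∧ (dg k K = 0 ∧ UB k K 0) ∧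
      Nonempty (CohB1.tensorMod E E' ≅ cokernel l) := by
  have hP := rk_tensor hF hF'
  have hQ := rk_tensor hE hE'
  have hdP : dg k (CohB1.tensorMod F F') = 0 := by rw [dg_tensor k hd hF hF', hdF, hdF']; simp
  have hdQ : dg k (CohB1.tensorMod E E') = 0 := by rw [dg_tensor k hd hE hE', hdE, hdE']; simp
  haveI := mono_tensor (Groth.L22.CurveDeg.isFinLocFree_of_rank hG) (Groth.L22.CurveDeg.isFinLocFree_of_rank hF') i i'
  haveI := epi_tensor π π'
  have hUP : UB k (CohB1.tensorMod F F') 0 := UB.of_mono k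
    (ub_zero_of_allPow k hreg hd (IsBundle.tensor ⟨s, hG⟩ ⟨s', hG'⟩) (hcl.tensor hcl').allPow) (tensorMap i i')
  have hcP := isCoh_of_rank hP
  have hcQ := isCoh_of_rank hQ
  have hUQ := ub_zero_of_epi k hd (tensorMap π π') hcP hcQ (hdP.trans hdQ.symm) hUP
  obtain ⟨-, hK⟩ := add_kernel k hd.le (tensorMap π π') hcP hcQ
  let c : cokernel (kernel.ι (tensorMap π π')) ≅ CohB1.tensorMod E E' :=
    (cokernelIsCokernel _).coconePointUniqueUpToIso (shortExact_kernel (tensorMap π π')).gIsCokernel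
  exact ⟨⟨hdQ, hUQ⟩, _, kernel (tensorMap π π'), tensorMap i i', kernel.ι _,
    locFree_of_mono hreg hd.le (kernel.ι _) (coh_kernel hcP hcQ _) hP, inferInstance, inferInstance,
    isBundle_cokernel_tensor hreg hd ⟨s, hG⟩ ⟨a', hF'⟩ i i' hi hi', IsBundle.of_iso c.symm ⟨_, hQ⟩,
    ⟨hdP, hUP⟩, ⟨by omega, UB.of_mono k hUP (kernel.ι _)⟩, ⟨c.symm⟩⟩

omit [IsProper (X ↘ Spec (CommRingCat.of k))] in
/-- Degree zero without positive subsheaves is semistability of degree zero. -/
theorem semistable_of_ub {r : ℕ} {E : X.Modules} (hE : FlatMod.IsFinLocFreeOfRank r E) (h0 : dg k E = 0)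
    (h : UB k E 0) :
    Curv2.deg k X E r = 0 ∧ ∀ (F : X.Modules) (r' : ℕ) (i : F ⟶ E), Mono i → 0 < r' →
      FlatMod.IsFinLocFreeOfRank r' F → Curv2.deg k X F r' * (r : ℤ) ≤ Curv2.deg k X E r * (r' : ℤ) := by
  rw [dg_eq k hE, h0]
  refine ⟨rfl, fun F r' i hi _ hF => ?_⟩
  have h1 := h F i hi (isCoh_of_rank hF)
  rw [zero_mul] at h1
  rw [zero_mul, dg_eq k hF]
  exact mul_nonpos_of_nonpos_of_nonneg h1 (Int.natCast_nonneg r)

end Groth.L21.Weil
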