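import Groth.Agent.L21.Weil.Retract
import Groth.Agent.L21.Bundle.Twist
import Groth.Agent.L00.TensorColim
import Groth.Agent.L29.DCoh.TensorPerfect
import Mathlib.Algebra.Polynomial.Degree.Lemmas
import Mathlib.LinearAlgebra.Dimension.Finite

/-!
Finiteness in the sense of Weil through summands of tensor powers.
-/

set_option autoImplicit false
set_option backward.isDefEq.respectTransparency false
set_option linter.style.haveILetI false
universe u

open CategoryTheory CategoryTheory.Limits AlgebraicGeometry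

noncomputable section

namespace Groth.L21.Weil

open Groth.L21.Bundle
open Groth.L00.Tensor

/-- `P(E)`. -/
abbrev powSum {X : Scheme.{u}} (E : X.Modules) (P : Polynomial ℕ) : X.Modules :=
  ∐ fun i : Fin (P.natDegree + 1) => ∐ fun _ : Fin (P.coeff ↑i) => CohB1.tensorPow E ↑i

/-- A module is a bundle. -/
def IsBundle {X : Scheme.{u}} (E : X.Modules) : Prop := ∃ r, FlatMod.IsFinLocFreeOfRank r E

/-- Some finite family of bundles contains the unit up to summands and is stable under `- ⊗ E`. -/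
def Closed {X : Scheme.{u}} (E : X.Modules) : Prop :=
  ∃ (s : ℕ) (B : Fin s → X.Modules), (∀ b, IsBundle (B b)) ∧ Ret B (Coh.structureModule X) ∧
    ∀ b, Ret B (CohB1.tensorMod (B b) E)

/-- All powers are summands of sums from a finite family of bundles. -/
def AllPow {X : Scheme.{u}} (E : X.Modules) : Prop :=
  ∃ (s : ℕ) (B : Fin s → X.Modules), (∀ b, IsBundle (B b)) ∧ ∀ n, Ret B (CohB1.tensorPow E n)

section General

variable {X : Scheme.{u}}

instance preservesShape_tensorRight (N : X.Modules) (m : ℕ) :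
    PreservesColimitsOfShape (Discrete (Fin m)) (tensorRightF N) := by
  haveI : PreservesColimitsOfSize.{0, 0} (tensorRightF N) := preservesColimitsOfSize_shrink.{0, u, 0, u} _
  infer_instance

instance preservesShape_tensorLeft (N : X.Modules) (m : ℕ) :
    PreservesColimitsOfShape (Discrete (Fin m)) (tensorLeftF N) := by
  haveI : PreservesColimitsOfSize.{0, 0} (tensorLeftF N) := preservesColimitsOfSize_shrink.{0, u, 0, u} _
  infer_instance

/-- Tensor products of summands of sums. -/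
theorem Ret.tensor {β γ : Type} {B : β → X.Modules} {D : γ → X.Modules} {M N : X.Modules} (hM : Ret B M) (hN : Ret D N) :
    Ret (fun x : β × γ => CohB1.tensorMod (B x.1) (D x.2)) (CohB1.tensorMod M N) :=
  (hM.mapF (tensorRightF N)).of_forall fun b =>
    (hN.mapF (tensorLeftF (B b))).of_forall fun c => ret_member (fun x : β × γ => CohB1.tensorMod (B x.1) (D x.2)) (b, c)

theorem IsRetract.tensor {M M' N N' : X.Modules} (h : IsRetract M M') (h' : IsRetract N N') :
    IsRetract (CohB1.tensorMod M N) (CohB1.tensorMod M' N') :=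
  (h.mapF (tensorRightF N)).trans (h'.mapF (tensorLeftF M'))

theorem ret_biprod {M N : X.Modules} : Ret (fun b : Bool => bif b then M else N) (M ⊞ N) := by
  refine ⟨2, ![true, false], biprod.desc (Sigma.ι (fun i : Fin 2 => bif ![true, false] i then M else N) 0)
    (Sigma.ι (fun i : Fin 2 => bif ![true, false] i then M else N) 1),
    Sigma.desc (Fin.cons biprod.inl (Fin.cons biprod.inr fun i => i.elim0)), ?_⟩
  apply biprod.hom_ext' <;> simp <;> rfl

theorem Closed.of_family {β : Type} [Finite β] {E : X.Modules} (B : β → X.Modules) (hB : ∀ b, IsBundle (B b))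
    (h1 : Ret B (Coh.structureModule X)) (h2 : ∀ b, Ret B (CohB1.tensorMod (B b) E)) : Closed E := by
  haveI := Fintype.ofFinite β
  let e := Fintype.equivFin β
  have key : ∀ {M : X.Modules}, Ret B M → Ret (fun x => B (e.symm x)) M := fun {M} h =>
    h.of_forall fun b => by
      have h' := ret_member (fun x => B (e.symm x)) (e b)
      simpa using h'
  exact ⟨_, fun x => B (e.symm x), fun x => hB _, key h1, fun x => key (h2 _)⟩

theorem Closed.allPow {E : X.Modules} (h : Closed E) : AllPow E := by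
  obtain ⟨s, B, hB, h1, h2⟩ := h
  refine ⟨s, B, hB, fun n => ?_⟩
  induction n with
  | zero => exact h1
  | succ n ih => exact (ih.mapF (tensorRightF E)).of_forall h2

theorem AllPow.retract {E A : X.Modules} (h : AllPow E) (hA : IsRetract A E) : AllPow A := by
  obtain ⟨s, B, hB, h1⟩ := h
  refine ⟨s, B, hB, fun n => (h1 n).retract ?_⟩
  induction n with
  | zero => exact IsRetract.of_iso (Iso.refl _)
  | succ n ih => exact ih.tensor hA

end General

variable {X : Scheme.{u}} [IsIntegral X] [IsLocallyNoetherian X]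

theorem IsBundle.tensor {A B : X.Modules} (hA : IsBundle A) (hB : IsBundle B) : IsBundle (CohB1.tensorMod A B) := by
  obtain ⟨a, hA⟩ := hA
  obtain ⟨b, hB⟩ := hB
  exact Groth.L21.Disc.exists_rank (Groth.L29.DC.isFinLocFree_tensor
    (Groth.L22.CurveDeg.isFinLocFree_of_rank hA) (Groth.L22.CurveDeg.isFinLocFree_of_rank hB))

theorem rk_tensor {a b : ℕ} {A B : X.Modules} (hA : FlatMod.IsFinLocFreeOfRank a A) (hB : FlatMod.IsFinLocFreeOfRank b B) :
    FlatMod.IsFinLocFreeOfRank (a * b) (CohB1.tensorMod A B) := by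
  obtain ⟨r, hr⟩ := IsBundle.tensor ⟨a, hA⟩ ⟨b, hB⟩
  have h := rk_eq hr
  obtain ⟨e⟩ := Groth.L22.CurveDeg.nonempty_stalk_tensor_equiv hB A (genericPoint X)
  obtain ⟨e'⟩ := Groth.L22.CurveDeg.nonempty_stalk_equiv hA (genericPoint X)
  have h2 : rk (CohB1.tensorMod A B) = b * a := by
    unfold rk
    rw [← e.finrank_eq, ← ((LinearEquiv.piCongrRight fun _ : Fin b => e').finrank_eq),
      Module.finrank_pi_fintype, Finset.sum_const, Finset.card_univ, Fintype.card_fin, Module.finrank_fintype_fun_eq_card,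
      Fintype.card_fin, smul_eq_mul]
  rw [show a * b = r by rw [← h, h2, mul_comm]]
  exact hr

theorem isBundle_pow {E : X.Modules} (hE : IsBundle E) : ∀ n : ℕ, IsBundle (CohB1.tensorPow E n)
  | 0 => ⟨1, locFree_one (Groth.L18.Ample.isInvertible_structureModule X)⟩
  | n + 1 => (isBundle_pow hE n).tensor hE

theorem Closed.biprod {E F : X.Modules} (hE : Closed E) (hF : Closed F) : Closed (E ⊞ F) := by
  obtain ⟨s, B, hB, hB1, hB2⟩ := hE
  obtain ⟨t, D, hD, hD1, hD2⟩ := hF
  refine Closed.of_family (fun x : Fin s × Fin t => CohB1.tensorMod (B x.1) (D x.2)) (fun x => (hB _).tensor (hD _))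
    ((hB1.tensor hD1).retract (IsRetract.of_iso (tensorUnitRight _).symm)) fun x => ?_
  refine ((ret_biprod (M := E) (N := F)).mapF (tensorLeftF (CohB1.tensorMod (B x.1) (D x.2)))).of_forall fun b => ?_
  cases b
  · exact ((ret_member B x.1).tensor (hD2 x.2)).retract (IsRetract.of_iso (tensorAssoc (B x.1) (D x.2) F))
  · exact ((hB2 x.1).tensor (ret_member D x.2)).retract (IsRetract.of_iso
      (tensorAssoc (B x.1) (D x.2) E ≪≫ tensorIso (Iso.refl _) (tensorComm (D x.2) E) ≪≫ (tensorAssoc (B x.1) E (D x.2)).symm))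

theorem Closed.tensor {E F : X.Modules} (hE : Closed E) (hF : Closed F) : Closed (CohB1.tensorMod E F) := by
  obtain ⟨s, B, hB, hB1, hB2⟩ := hE
  obtain ⟨t, D, hD, hD1, hD2⟩ := hF
  exact Closed.of_family (fun x : Fin s × Fin t => CohB1.tensorMod (B x.1) (D x.2)) (fun x => (hB _).tensor (hD _))
    ((hB1.tensor hD1).retract (IsRetract.of_iso (tensorUnitRight _).symm))
    fun x => ((hB2 x.1).tensor (hD2 x.2)).retract (IsRetract.of_iso (tensorMiddleFour _ _ _ _))

variable (k : Type u) [Field k] [X.Over (Spec (CommRingCat.of k))] [IsProper (X ↘ Spec (CommRingCat.of k))]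
  (hreg : ∀ x : X, IsRegularLocalRing (X.presheaf.stalk x)) (hd : topologicalKrullDim X ≤ 1)

omit [IsIntegral X] [IsLocallyNoetherian X] in
/-- `P(E)` as one sum. -/
theorem nonempty_powSum_iso (E : X.Modules) (P : Polynomial ℕ) {m : ℕ → ℕ} (f : ∀ n, Fin (m n) → X.Modules)
    (e : ∀ n, CohB1.tensorPow E n ≅ ∐ f n) :
    Nonempty (powSum E P ≅ ∐ fun x : Σ i : Fin (P.natDegree + 1), Σ _ : Fin (P.coeff ↑i), Fin (m ↑i) => f _ x.2.2) :=
  ⟨Sigma.mapIso (fun i : Fin (P.natDegree + 1) => Sigma.mapIso (fun _ : Fin (P.coeff ↑i) => e ↑i) ≪≫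
      sigmaSigmaIso (fun _ : Fin (P.coeff ↑i) => Fin (m ↑i)) (fun _ l => f ↑i l)) ≪≫
    sigmaSigmaIso (fun i : Fin (P.natDegree + 1) => Σ _ : Fin (P.coeff ↑i), Fin (m ↑i)) (fun i y => f ↑i y.2)⟩

omit [IsIntegral X] [IsLocallyNoetherian X] in
theorem cnt_powSum (P : Polynomial ℕ) {m : ℕ → ℕ} (f : ∀ n, Fin (m n) → X.Modules) (Z : X.Modules) {M : ℕ}
    (hM : P.natDegree < M) :
    cnt (fun x : Σ i : Fin (P.natDegree + 1), Σ _ : Fin (P.coeff ↑i), Fin (m ↑i) => f _ x.2.2) Z =
      ∑ i ∈ Finset.range M, P.coeff i * cnt (f i) Z := by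
  rw [cnt_sigma (fun (i : Fin (P.natDegree + 1)) (y : Σ _ : Fin (P.coeff ↑i), Fin (m ↑i)) => f ↑i y.2)]
  simp only [cnt_sigma (fun (_ : Fin (P.coeff _)) (l : Fin (m _)) => f _ l), Finset.sum_const, Finset.card_univ,
    Fintype.card_fin, smul_eq_mul]
  rw [Fin.sum_univ_eq_sum_range (fun i => P.coeff i * cnt (f i) Z) (P.natDegree + 1)]
  refine Finset.sum_subset (Finset.range_subset_range.2 hM) fun i _ hi => ?_
  rw [Finset.mem_range, not_lt] at hi
  rw [P.coeff_eq_zero_of_natDegree_lt hi, zero_mul]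

include k hreg hd in
/-- A nontrivial relation gives a closed family. -/
theorem closed_of_relation {E : X.Modules} (hE : IsBundle E) {P Q : Polynomial ℕ} (hPQ : P ≠ Q)
    (h : Nonempty (powSum E P ≅ powSum E Q)) : Closed E := by
  classical
  have hb := isBundle_pow hE
  choose r hr using hb
  choose m f hf e using fun n => exists_decomp hreg hd (r n) (hr n)
  let e' := fun n => (e n).some
  obtain ⟨φ⟩ := h
  obtain ⟨α⟩ := nonempty_powSum_iso E P f e'
  obtain ⟨β⟩ := nonempty_powSum_iso E Q f e'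
  let M := P.natDegree + Q.natDegree + 1
  have heq : ∀ Z, Ind Z → ∑ i ∈ Finset.range M, P.coeff i * cnt (f i) Z = ∑ i ∈ Finset.range M, Q.coeff i * cnt (f i) Z := by
    intro Z hZ
    rw [← cnt_powSum P f Z (by omega), ← cnt_powSum Q f Z (by omega)]
    exact le_antisymm
      (cnt_le k hreg hd _ _ (fun x => hf _ _) hZ (IsRetract.of_iso (α.symm ≪≫ φ ≪≫ β)))
      (cnt_le k hreg hd _ _ (fun x => hf _ _) hZ (IsRetract.of_iso (β.symm ≪≫ φ.symm ≪≫ α)))
  have hex : ((Finset.range M).filter fun i => P.coeff i ≠ Q.coeff i).Nonempty := by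
    by_contra hne
    refine hPQ (Polynomial.ext fun i => ?_)
    by_cases hi : i < M
    · by_contra h'
      exact hne ⟨i, Finset.mem_filter.2 ⟨Finset.mem_range.2 hi, h'⟩⟩
    · rw [P.coeff_eq_zero_of_natDegree_lt (by omega), Q.coeff_eq_zero_of_natDegree_lt (by omega)]
  obtain ⟨N, hN, hmax⟩ := Finset.exists_max_image _ id hex
  rw [Finset.mem_filter, Finset.mem_range] at hN
  have key : ∀ (a b : ℕ → ℕ), b N < a N → (∀ i, N < i → i < M → a i = b i) →
      (∀ Z, Ind Z → ∑ i ∈ Finset.range M, a i * cnt (f i) Z = ∑ i ∈ Finset.range M, b i * cnt (f i) Z) →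
      ∃ c : ℕ → ℕ, ∀ Z, Ind Z → cnt (f N) Z ≤ ∑ i ∈ Finset.range N, c i * cnt (f i) Z := by
    intro a b hlt hhi hab
    refine ⟨b, fun Z hZ => ?_⟩
    have h1 := hab Z hZ
    rw [← Finset.sum_range_add_sum_Ico _ (Nat.succ_le_of_lt hN.1),
      ← Finset.sum_range_add_sum_Ico (fun i => b i * cnt (f i) Z) (Nat.succ_le_of_lt hN.1),
      Finset.sum_congr rfl (g := fun i => b i * cnt (f i) Z) (fun i hi => by
        rw [Finset.mem_Ico] at hi
        rw [hhi i (Nat.lt_of_succ_le hi.1) hi.2] : ∀ i ∈ Finset.Ico N.succ M, a i * cnt (f i) Z = b i * cnt (f i) Z),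
      Finset.sum_range_succ, Finset.sum_range_succ] at h1
    nlinarith [Nat.zero_le (∑ i ∈ Finset.range N, a i * cnt (f i) Z)]
  have hhi : ∀ i, N < i → i < M → P.coeff i = Q.coeff i := fun i hi hiM => by
    by_contra h'
    have := hmax i (Finset.mem_filter.2 ⟨Finset.mem_range.2 hiM, h'⟩)
    simp only [id] at this
    omega
  obtain ⟨c, hc⟩ : ∃ c : ℕ → ℕ, ∀ Z, Ind Z → cnt (f N) Z ≤ ∑ i ∈ Finset.range N, c i * cnt (f i) Z := by
    rcases Nat.lt_or_gt_of_ne hN.2 with hlt | hlt
    · exact key _ _ hlt (fun i h1 h2 => (hhi i h1 h2).symm) fun Z hZ => (heq Z hZ).symm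
    · exact key _ _ hlt hhi heq
  let B : Fin N → X.Modules := fun i => CohB1.tensorPow E ↑i
  have hN' : Ret B (CohB1.tensorPow E N) := by
    have h1 : IsRetract (∐ f N) (∐ fun x : Σ i : Fin N, Σ _ : Fin (c ↑i), Fin (m ↑i) => f _ x.2.2) := by
      refine isRetract_of_cnt_le _ _ fun l => (hc _ (hf N l)).trans (le_of_eq ?_)
      rw [cnt_sigma (fun (i : Fin N) (y : Σ _ : Fin (c ↑i), Fin (m ↑i)) => f ↑i y.2)]
      simp only [cnt_sigma (fun (_ : Fin (c _)) (l : Fin (m _)) => f _ l), Finset.sum_const, Finset.card_univ,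
        Fintype.card_fin, smul_eq_mul]
      rw [Fin.sum_univ_eq_sum_range (fun i => c i * cnt (f i) (f N l)) N]
    refine Ret.retract (Ret.sigma fun x => ?_) ((IsRetract.of_iso (e' N)).trans h1)
    refine (ret_member B x.1).retract (IsRetract.trans ?_ (IsRetract.of_iso (e' _).symm))
    exact ⟨Sigma.ι (f _) x.2.2, Sigma.desc fun l => if h : l = x.2.2 then eqToHom (by rw [h]) else 0, by simp⟩
  refine ⟨N, B, fun i => isBundle_pow hE ↑i, ?_, fun i => ?_⟩
  · rcases Nat.eq_zero_or_pos N with h0 | h0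
    · have hM' : CohB1.tensorPow E N = Coh.structureModule X := by rw [h0]; rfl
      rwa [hM'] at hN'
    · exact ret_member B ⟨0, h0⟩
  · show Ret B (CohB1.tensorPow E (↑i + 1))
    rcases Nat.lt_or_ge ((i : ℕ) + 1) N with h1 | h1
    · exact ret_member B ⟨_, h1⟩
    · rwa [show (i : ℕ) + 1 = N by omega]

include k hreg hd in
/-- A finite family containing all powers gives a relation. -/
theorem relation_of_allPow {E : X.Modules} (hE : IsBundle E) (h : AllPow E) :
    ∃ P Q : Polynomial ℕ, P ≠ Q ∧ Nonempty (powSum E P ≅ powSum E Q) := by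
  classical
  obtain ⟨s, B, hB, hpow⟩ := h
  choose rB hrB using hB
  choose mB g hg eB using fun b => exists_decomp hreg hd (rB b) (hrB b)
  have hb := isBundle_pow hE
  choose r hr using hb
  choose m f hf e using fun n => exists_decomp hreg hd (r n) (hr n)
  let e' := fun n => (e n).some
  let G : (Σ b : Fin s, Fin (mB b)) → X.Modules := fun x => g x.1 x.2
  have hG : ∀ x, Ind (G x) := fun x => hg _ _
  have hRet : ∀ n l, ∃ x, Nonempty (f n l ≅ G x) := by
    intro n l
    obtain ⟨q, a, ha⟩ := (hpow n).of_forall (B' := G) fun b =>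
      (Ret.sigma fun i => ret_member G ⟨b, i⟩).retract (IsRetract.of_iso (eB b).some)
    have hle := cnt_le k hreg hd (f n) (fun i => G (a i)) (fun i => hG _) (hf n l)
      ((IsRetract.of_iso (e' n).symm).trans ha)
    have hpos : 0 < cnt (f n) (f n l) := by
      haveI : Nonempty {i // Nonempty (f n i ≅ f n l)} := ⟨⟨l, ⟨Iso.refl _⟩⟩⟩
      exact Nat.card_pos
    obtain ⟨⟨i, ⟨ei⟩⟩⟩ := (Nat.card_pos_iff.1 (hpos.trans_le hle)).1
    exact ⟨a i, ⟨ei.symm⟩⟩
  let F := Σ b : Fin s, Fin (mB b)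
  let N := Fintype.card F + 1
  let v : Fin N → F → ℤ := fun n x => cnt (f ↑n) (G x)
  have hdep : ¬ LinearIndependent ℤ v := fun hli => by
    have := hli.fintype_card_le_finrank
    rw [Fintype.card_fin, Module.finrank_fintype_fun_eq_card] at this
    omega
  obtain ⟨c, hc, j, hj⟩ := Fintype.not_linearIndependent_iff.1 hdep
  let poly : (Fin N → ℕ) → Polynomial ℕ := fun a => ∑ i : Fin N, Polynomial.monomial (↑i : ℕ) (a i)
  have hcoeff : ∀ (a : Fin N → ℕ) (i : Fin N), (poly a).coeff ↑i = a i := fun a i => by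
    simp only [poly, Polynomial.finsetSum_coeff, Polynomial.coeff_monomial, Fin.val_inj]
    simp
  have hdeg : ∀ a, (poly a).natDegree < N := fun a => by
    refine lt_of_le_of_lt (Polynomial.natDegree_sum_le_of_forall_le (n := N - 1) Finset.univ _ fun i _ => ?_) (by omega)
    exact (Polynomial.natDegree_monomial_le (a i)).trans (by omega)
  let p : Fin N → ℕ := fun i => (c i).toNat
  let q : Fin N → ℕ := fun i => (-c i).toNat
  refine ⟨poly p, poly q, fun h => ?_, ?_⟩
  · have := congrArg (fun P => P.coeff ↑j) h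
    simp only [hcoeff, p, q] at this
    omega
  obtain ⟨α⟩ := nonempty_powSum_iso E (poly p) f e'
  obtain ⟨β⟩ := nonempty_powSum_iso E (poly q) f e'
  suffices hZ : ∀ Z, cnt (fun x : Σ i : Fin ((poly p).natDegree + 1), Σ _ : Fin ((poly p).coeff ↑i), Fin (m ↑i) => f _ x.2.2) Z =
      cnt (fun x : Σ i : Fin ((poly q).natDegree + 1), Σ _ : Fin ((poly q).coeff ↑i), Fin (m ↑i) => f _ x.2.2) Z by
    exact ⟨α ≪≫ (nonempty_iso_of_cnt_eq _ _ hZ).some ≪≫ β.symm⟩
  intro Z
  rw [cnt_powSum (poly p) f Z (hdeg p), cnt_powSum (poly q) f Z (hdeg q), Finset.sum_range, Finset.sum_range]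
  simp only [hcoeff]
  by_cases hZ : ∃ x, Nonempty (Z ≅ G x)
  · obtain ⟨x, ⟨ex⟩⟩ := hZ
    have h1 := congrFun hc x
    simp only [Finset.sum_apply, Pi.smul_apply, smul_eq_mul, Pi.zero_apply, v] at h1
    simp only [cnt_congr _ ex]
    zify
    rw [← sub_eq_zero, ← Finset.sum_sub_distrib, ← h1]
    refine Finset.sum_congr rfl fun i _ => ?_
    rw [← sub_mul]
    congr 1
    simp only [p, q]
    omega
  · have h0 : ∀ n, cnt (f n) Z = 0 := fun n => by
      haveI : IsEmpty {i // Nonempty (f n i ≅ Z)} := ⟨fun ⟨i, ⟨ei⟩⟩ => by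
        obtain ⟨x, ⟨ex⟩⟩ := hRet n i
        exact hZ ⟨x, ⟨ei.symm ≪≫ ex⟩⟩⟩
      exact Nat.card_of_isEmpty
    simp [h0]

end Groth.L21.Weil
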