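import Groth.Agent.L21.Bundle.Fitting
import Mathlib.CategoryTheory.Skeletal
import Mathlib.LinearAlgebra.FiniteDimensional.Basic
import Mathlib.Data.Fintype.Sigma

/-!
Retracts of finite sums and Krull–Schmidt counting for vector bundles on curves.
-/

set_option autoImplicit false
set_option backward.isDefEq.respectTransparency false
set_option linter.style.haveILetI false
universe u v w

open CategoryTheory CategoryTheory.Limits AlgebraicGeometry

noncomputable section

namespace Groth.L21.Weil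

section Cat

variable {C : Type v} [Category.{w} C] [Preadditive C] [HasFiniteCoproducts C]

/-- Direct summand. -/
def IsRetract (M N : C) : Prop := ∃ (j : M ⟶ N) (p : N ⟶ M), j ≫ p = 𝟙 M

theorem IsRetract.of_iso {M N : C} (e : M ≅ N) : IsRetract M N := ⟨e.hom, e.inv, e.hom_inv_id⟩

theorem IsRetract.trans {M N P : C} (h : IsRetract M N) (h' : IsRetract N P) : IsRetract M P := by
  obtain ⟨j, p, hj⟩ := h
  obtain ⟨j', p', hj'⟩ := h'
  exact ⟨j ≫ j', p' ≫ p, by rw [Category.assoc, reassoc_of% hj', hj]⟩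

theorem IsRetract.map {D : Type v} [Category.{w} D] {M N : C} (F : C ⥤ D) (h : IsRetract M N) :
    ∃ (j : F.obj M ⟶ F.obj N) (p : F.obj N ⟶ F.obj M), j ≫ p = 𝟙 _ := by
  obtain ⟨j, p, hj⟩ := h
  exact ⟨F.map j, F.map p, by rw [← F.map_comp, hj, F.map_id]⟩

theorem IsRetract.mapF {M N : C} (F : C ⥤ C) (h : IsRetract M N) : IsRetract (F.obj M) (F.obj N) := h.map F

/-- Reindexing along an injection gives a summand. -/
theorem isRetract_reindex {ι κ : Type} [Finite ι] [Finite κ] (f : ι → C) (g : κ → C) (σ : ι → κ)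
    (hσ : Function.Injective σ) (e : ∀ i, f i ≅ g (σ i)) : IsRetract (∐ f) (∐ g) := by
  classical
  refine ⟨Sigma.desc fun i => (e i).hom ≫ Sigma.ι g (σ i),
    Sigma.desc fun j => if h : ∃ i, σ i = j then eqToHom (by rw [h.choose_spec]) ≫ (e h.choose).inv ≫ Sigma.ι f h.choose
      else 0, ?_⟩
  refine Sigma.hom_ext _ _ fun i => ?_
  rw [Sigma.ι_desc_assoc, Category.assoc, Sigma.ι_desc, Category.comp_id, dif_pos ⟨i, rfl⟩]
  have key : ∀ (j : ι) (hj : g (σ i) = g (σ j)), j = i →
      (e i).hom ≫ eqToHom hj ≫ (e j).inv ≫ Sigma.ι f j = Sigma.ι f i := by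
    intro j hj h
    subst h
    rw [eqToHom_refl, Category.id_comp, Iso.hom_inv_id_assoc]
  exact key _ _ (hσ (Exists.choose_spec (⟨i, rfl⟩ : ∃ i', σ i' = σ i)))

/-- `M` is a summand of a finite sum of members of the family. -/
def Ret {β : Type} (B : β → C) (M : C) : Prop := ∃ (m : ℕ) (a : Fin m → β), IsRetract M (∐ fun i => B (a i))

theorem Ret.retract {β : Type} {B : β → C} {M N : C} (hN : Ret B N) (h : IsRetract M N) : Ret B M := by
  obtain ⟨m, a, ha⟩ := hN
  exact ⟨m, a, h.trans ha⟩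

theorem ret_member {β : Type} (B : β → C) (b : β) : Ret B (B b) :=
  ⟨1, fun _ => b, IsRetract.of_iso (coproductUniqueIso (fun _ : Fin 1 => B b)).symm⟩

theorem Ret.sigma {β ι : Type} [Finite ι] {B : β → C} {f : ι → C} (h : ∀ i, Ret B (f i)) : Ret B (∐ f) := by
  classical
  haveI := Fintype.ofFinite ι
  choose m a j p hjp using h
  let e := (Fintype.equivFin (Σ i, Fin (m i))).symm
  refine ⟨Fintype.card (Σ i, Fin (m i)), fun x => a (e x).1 (e x).2, ?_⟩
  refine IsRetract.trans (N := ∐ fun x : Σ i, Fin (m i) => B (a x.1 x.2)) ⟨Sigma.desc fun i => j i ≫ Sigma.desc fun l =>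
      Sigma.ι (fun x : Σ i, Fin (m i) => B (a x.1 x.2)) ⟨i, l⟩,
    Sigma.desc fun x => Sigma.ι (fun l => B (a x.1 l)) x.2 ≫ p x.1 ≫ Sigma.ι f x.1, ?_⟩ ?_
  · refine Sigma.hom_ext _ _ fun i => ?_
    rw [Sigma.ι_desc_assoc, Category.assoc, Category.comp_id]
    conv_rhs => rw [← Category.id_comp (Sigma.ι f i), ← hjp i, Category.assoc]
    congr 1
    exact Sigma.hom_ext _ _ fun l => by simp only [Sigma.ι_desc_assoc, Sigma.ι_desc]
  · exact IsRetract.of_iso (Sigma.reindex e (fun x : Σ i, Fin (m i) => B (a x.1 x.2))).symm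

theorem Ret.of_forall {β γ : Type} {B : β → C} {B' : γ → C} {M : C} (h : Ret B M) (hB : ∀ b, Ret B' (B b)) :
    Ret B' M := by
  obtain ⟨m, a, ha⟩ := h
  exact (Ret.sigma fun i => hB (a i)).retract ha

/-- A functor preserving finite sums carries summands of sums to summands of sums. -/
theorem Ret.mapF {β : Type} {B : β → C} {M : C} (h : Ret B M) (F : C ⥤ C)
    [∀ (m : ℕ), PreservesColimitsOfShape (Discrete (Fin m)) F] : Ret (fun b => F.obj (B b)) (F.obj M) := by
  obtain ⟨m, a, ha⟩ := h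
  exact ⟨m, a, (ha.mapF F).trans (IsRetract.of_iso (PreservesCoproduct.iso F fun i => B (a i)))⟩

end Cat

section Bundles

open Groth.L21.Bundle

variable {X : Scheme.{u}} [IsIntegral X] [IsLocallyNoetherian X] (k : Type u) [Field k]
  [X.Over (Spec (CommRingCat.of k))] [IsProper (X ↘ Spec (CommRingCat.of k))]
  (hreg : ∀ x : X, IsRegularLocalRing (X.presheaf.stalk x)) (hd : topologicalKrullDim X ≤ 1)

/-- An indecomposable bundle. -/
def Ind (E : X.Modules) : Prop :=
  (∃ r, FlatMod.IsFinLocFreeOfRank r E) ∧ ¬ IsZero E ∧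
    ∀ (E₁ E₂ : X.Modules), Nonempty (E ≅ E₁ ⊞ E₂) → IsZero E₁ ∨ IsZero E₂

attribute [local irreducible] dg rk

include hreg hd in
/-- A summand of a bundle is a bundle. -/
theorem bundle_of_retract {r : ℕ} {A E : X.Modules} (hE : FlatMod.IsFinLocFreeOfRank r E) (h : IsRetract A E) :
    FlatMod.IsFinLocFreeOfRank (rk A) A ∧ rk A ≤ r := by
  obtain ⟨j, p, hjp⟩ := h
  haveI : IsSplitMono j := IsSplitMono.mk' ⟨p, hjp⟩
  have hcA := coh_retract (isCoh_of_rank hE) j p hjp
  exact ⟨locFree_of_mono hreg hd j hcA hE, (rk_le_of_mono j hcA (isCoh_of_rank hE)).trans_eq (rk_eq hE)⟩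

include hreg hd in
/-- Every bundle is a finite sum of indecomposable ones. -/
theorem exists_decomp : ∀ (r : ℕ) {E : X.Modules}, FlatMod.IsFinLocFreeOfRank r E →
    ∃ (n : ℕ) (f : Fin n → X.Modules), (∀ i, Ind (f i)) ∧ Nonempty (E ≅ ∐ f) := by
  intro r
  induction r using Nat.strong_induction_on with
  | _ r ih =>
    intro E hE
    rcases Nat.eq_zero_or_pos r with h0 | h0
    · subst h0
      refine ⟨0, fun i => i.elim0, fun i => i.elim0, ⟨(isZero_of_rank_zero hE).iso ?_⟩⟩
      exact (IsZero.iff_id_eq_zero _).2 (Sigma.hom_ext _ _ fun i => i.elim0)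
    · by_cases hind : ∀ (E₁ E₂ : X.Modules), Nonempty (E ≅ E₁ ⊞ E₂) → IsZero E₁ ∨ IsZero E₂
      · exact ⟨1, fun _ => E, fun _ => ⟨⟨r, hE⟩, not_isZero_of_rank h0 hE, hind⟩,
          ⟨(coproductUniqueIso fun _ : Fin 1 => E).symm⟩⟩
      · push Not at hind
        obtain ⟨A, B, ⟨e⟩, hA, hB⟩ := hind
        have hrA : IsRetract A E := ⟨biprod.inl ≫ e.inv, e.hom ≫ biprod.fst, by simp⟩
        have hrB : IsRetract B E := ⟨biprod.inr ≫ e.inv, e.hom ≫ biprod.snd, by simp⟩
        obtain ⟨hA', hAr⟩ := bundle_of_retract hreg hd hE hrA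
        obtain ⟨hB', hBr⟩ := bundle_of_retract hreg hd hE hrB
        have hsum : rk E = rk A + rk B := by
          have hT : (ShortComplex.mk (biprod.inl : A ⟶ A ⊞ B) biprod.snd (by simp)).ShortExact :=
            ShortComplex.Splitting.shortExact { r := biprod.fst, s := biprod.inr }
          have h := rk_add hT (Groth.L16.CohSupport.isCoh_of_iso e (isCoh_of_rank hE))
          rw [rk_iso e]
          exact h
        rw [rk_eq hE] at hsum
        have ha : rk A ≠ 0 := fun h => hA (isZero_of_rank_zero (h ▸ hA'))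
        have hb : rk B ≠ 0 := fun h => hB (isZero_of_rank_zero (h ▸ hB'))
        obtain ⟨n₁, f₁, hf₁, ⟨e₁⟩⟩ := ih (rk A) (by omega) hA'
        obtain ⟨n₂, f₂, hf₂, ⟨e₂⟩⟩ := ih (rk B) (by omega) hB'
        refine ⟨n₁ + n₂, Fin.append f₁ f₂, fun i => Fin.addCases (fun i => by rw [Fin.append_left]; exact hf₁ i)
          (fun i => by rw [Fin.append_right]; exact hf₂ i) i, ⟨e ≪≫ biprod.mapIso e₁ e₂ ≪≫ ?_⟩⟩
        exact
          { hom := biprod.desc (Sigma.desc fun i => eqToHom (Fin.append_left f₁ f₂ i).symm ≫ Sigma.ι _ (Fin.castAdd n₂ i))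
              (Sigma.desc fun i => eqToHom (Fin.append_right f₁ f₂ i).symm ≫ Sigma.ι _ (Fin.natAdd n₁ i))
            inv := Sigma.desc fun i => Fin.addCases (motive := fun i => Fin.append f₁ f₂ i ⟶ (∐ f₁) ⊞ (∐ f₂))
              (fun i => eqToHom (Fin.append_left f₁ f₂ i) ≫ Sigma.ι f₁ i ≫ biprod.inl)
              (fun i => eqToHom (Fin.append_right f₁ f₂ i) ≫ Sigma.ι f₂ i ≫ biprod.inr) i
            hom_inv_id := by
              apply biprod.hom_ext' <;> refine Sigma.hom_ext _ _ fun i => ?_ <;> simp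
            inv_hom_id := by
              refine Sigma.hom_ext _ _ fun i => ?_
              refine Fin.addCases (fun i => ?_) (fun i => ?_) i <;> simp }

/-- The number of members of a family isomorphic to a given module. -/
def cnt {ι : Type} [Finite ι] (f : ι → X.Modules) (Z : X.Modules) : ℕ := Nat.card {i : ι // Nonempty (f i ≅ Z)}

omit [IsIntegral X] [IsLocallyNoetherian X] in
theorem cnt_congr {ι : Type} [Finite ι] (f : ι → X.Modules) {Z Z' : X.Modules} (e : Z ≅ Z') : cnt f Z = cnt f Z' :=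
  Nat.card_congr (Equiv.subtypeEquivRight fun _ => ⟨fun ⟨h⟩ => ⟨h ≪≫ e⟩, fun ⟨h⟩ => ⟨h ≪≫ e.symm⟩⟩)

omit [IsIntegral X] [IsLocallyNoetherian X] in
theorem cnt_sigma {ι : Type} [Fintype ι] {κ : ι → Type} [∀ i, Finite (κ i)] (f : ∀ i, κ i → X.Modules) (Z : X.Modules) :
    cnt (fun x : Σ i, κ i => f x.1 x.2) Z = ∑ i, cnt (f i) Z := by
  unfold cnt
  rw [← Nat.card_sigma]
  exact Nat.card_congr
    { toFun := fun x => ⟨x.1.1, ⟨x.1.2, x.2⟩⟩
      invFun := fun y => ⟨⟨y.1, y.2.1⟩, y.2.2⟩
      left_inv := fun _ => rfl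
      right_inv := fun _ => rfl }

include k hreg hd in
/-- A summand of a sum has no more copies of an indecomposable. -/
theorem cnt_le {ι κ : Type} [Finite ι] [Finite κ] (f : ι → X.Modules) (g : κ → X.Modules) (hg : ∀ j, Ind (g j))
    {Z : X.Modules} (hZ : Ind Z) (h : IsRetract (∐ f) (∐ g)) : cnt f Z ≤ cnt g Z := by
  classical
  haveI := Fintype.ofFinite ι
  haveI := Fintype.ofFinite κ
  obtain ⟨⟨r, hr⟩, hZ0, hZi⟩ := hZ
  haveI : Nontrivial (End Z) := ⟨⟨𝟙 Z, 0, fun h => hZ0 ((IsZero.iff_id_eq_zero Z).2 h)⟩⟩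
  haveI : IsLocalRing (End Z) := IsLocalRing.of_isUnit_or_isUnit_one_sub_self fun a =>
    isUnit_or_isUnit_of_add k hreg hd hr hZi a (1 - a) (by rw [add_sub_cancel]; exact isUnit_one)
  -- the division ring of residues
  let m : TwoSidedIdeal (End Z) := TwoSidedIdeal.mk' {a | ¬ IsUnit a} (fun h => not_isUnit_zero h) (fun ha hb hab => by
      rcases isUnit_or_isUnit_of_add k hreg hd hr hZi _ _ hab with h | h
      exacts [ha h, hb h])
    (fun ha hab => ha (by simpa using hab.neg))
    (fun {a b} hb hab => by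
      rcases isIso_or_isNilpotent k hreg hd hr hZi b with h | ⟨n, hn⟩
      · exact hb h
      · obtain ⟨u, hu⟩ := hab
        have h1 : (↑u⁻¹ * a) * b = 1 := by rw [mul_assoc, ← hu, Units.inv_mul]
        have h2 : ∀ l, b ^ l = 0 → (1 : End Z) = 0 := by
          intro l
          induction l with
          | zero => simp
          | succ l ih => exact fun hl => ih (by rw [← one_mul (b ^ l), ← h1, mul_assoc, ← pow_succ', hl, mul_zero])
        exact one_ne_zero (h2 n hn))
    (fun {a b} ha hab => by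
      rcases isIso_or_isNilpotent k hreg hd hr hZi a with h | ⟨n, hn⟩
      · exact ha h
      · obtain ⟨u, hu⟩ := hab
        have h1 : a * (b * ↑u⁻¹) = 1 := by rw [← mul_assoc, ← hu, Units.mul_inv]
        have h2 : ∀ l, a ^ l = 0 → (1 : End Z) = 0 := by
          intro l
          induction l with
          | zero => simp
          | succ l ih => exact fun hl => ih (by rw [← mul_one (a ^ l), ← h1, ← mul_assoc, ← pow_succ, hl, zero_mul])
        exact one_ne_zero (h2 n hn))
  have hm : ∀ {a : End Z}, a ∈ m ↔ ¬ IsUnit a := fun {a} => TwoSidedIdeal.mem_mk' _ _ _ _ _ _ a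
  let π : End Z →+* m.ringCon.Quotient := m.ringCon.mk'
  have hπ : Function.Surjective π := Quotient.mk''_surjective
  have hπ0 : ∀ a, π a = 0 ↔ a ∈ m := fun a => by
    rw [TwoSidedIdeal.mem_iff]
    exact (RingCon.eq m.ringCon).trans Iff.rfl
  haveI : Nontrivial m.ringCon.Quotient := ⟨⟨π 1, π 0, fun h => by
    rw [map_zero, hπ0, hm] at h; exact h isUnit_one⟩⟩
  letI : DivisionRing m.ringCon.Quotient := DivisionRing.ofIsUnitOrEqZero fun x => by
    obtain ⟨a, rfl⟩ := hπ x
    rcases em (IsUnit a) with h | h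
    · exact Or.inl (h.map π)
    · exact Or.inr ((hπ0 a).2 (hm.2 h))
  obtain ⟨j, p, hjp⟩ := h
  let e : ∀ i : {i : ι // Nonempty (f i ≅ Z)}, Nonempty (f i.1 ≅ Z) := fun i => i.2
  let A : {i : ι // Nonempty (f i ≅ Z)} → {l : κ // Nonempty (g l ≅ Z)} → m.ringCon.Quotient := fun i l =>
    π (show Z ⟶ Z from (e i).some.inv ≫ Sigma.ι f i.1 ≫ j ≫ Sigma.desc (fun l' => if h : l' = l.1 then eqToHom (by rw [h]) else 0) ≫ l.2.some.hom)
  let B : {l : κ // Nonempty (g l ≅ Z)} → {i : ι // Nonempty (f i ≅ Z)} → m.ringCon.Quotient := fun l i =>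
    π (show Z ⟶ Z from l.2.some.inv ≫ Sigma.ι g l.1 ≫ p ≫ Sigma.desc (fun i' => if h : i' = i.1 then eqToHom (by rw [h]) else 0) ≫ (e i).some.hom)
  have key : ∀ (i i' : {i : ι // Nonempty (f i ≅ Z)}), ∑ l, B l i' * A i l = if i = i' then 1 else 0 := by
    intro i i'
    let pr : ∀ l : κ, (∐ g) ⟶ g l := fun l => Sigma.desc fun l' => if h : l' = l then eqToHom (by rw [h]) else 0
    let q' : (∐ f) ⟶ Z := Sigma.desc (fun x => if h : x = i'.1 then eqToHom (by rw [h]) else 0) ≫ (e i').some.hom
    let s : Z ⟶ ∐ f := (e i).some.inv ≫ Sigma.ι f i.1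
    let c : κ → (Z ⟶ Z) := fun l => s ≫ j ≫ pr l ≫ Sigma.ι g l ≫ p ≫ q'
    have htot : ∑ l, pr l ≫ Sigma.ι g l = 𝟙 (∐ g) := by
      refine Sigma.hom_ext _ _ fun l' => ?_
      rw [Preadditive.comp_sum, Category.comp_id, Finset.sum_eq_single l']
      · simp [pr]
      · intro l _ hl; simp [pr, Ne.symm hl]
      · intro h; exact absurd (Finset.mem_univ _) h
    have h1 : ∑ l, c l = s ≫ q' := by
      have : s ≫ j ≫ (∑ l, pr l ≫ Sigma.ι g l) ≫ p ≫ q' = s ≫ q' := by
        rw [htot, Category.id_comp, reassoc_of% hjp]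
      rw [← this, Preadditive.sum_comp, Preadditive.comp_sum, Preadditive.comp_sum]
      simp [c]
    have h2 : s ≫ q' = if i = i' then 𝟙 Z else 0 := by
      split_ifs with h
      · subst h; simp [s, q']
      · have hne : i.1 ≠ i'.1 := fun hh => h (Subtype.ext hh)
        simp only [s, q', Category.assoc, Sigma.ι_desc_assoc, dif_neg hne, zero_comp, comp_zero]
    have h3 : ∀ l : κ, ¬ Nonempty (g l ≅ Z) → π (c l : End Z) = 0 := fun l hl => by
      rw [hπ0, hm]
      intro hu
      apply hl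
      haveI : IsIso (c l) := (isUnit_iff_isIso (show End Z from c l)).1 hu
      obtain ⟨⟨r', hr'⟩, hl0, hli⟩ := hg l
      let a : Z ⟶ g l := s ≫ j ≫ pr l
      let b : g l ⟶ Z := Sigma.ι g l ≫ p ≫ q' ≫ inv (c l)
      have hab : a ≫ b = 𝟙 Z := by
        rw [← IsIso.hom_inv_id (c l)]
        simp only [a, b, c, Category.assoc]
      rcases isIso_or_isNilpotent k hreg hd hr' hli (show End (g l) from b ≫ a) with h | ⟨n, hn⟩
      · haveI : IsIso (b ≫ a) := (isUnit_iff_isIso (show End (g l) from b ≫ a)).1 h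
        have : b ≫ a = 𝟙 _ := by
          rw [← cancel_mono (b ≫ a), Category.id_comp, Category.assoc, reassoc_of% hab]
        exact ⟨⟨b, a, this, hab⟩⟩
      · exfalso
        have h5 : ∀ l', ((show End (g l) from b ≫ a) ^ (l' + 1) : End (g l)) = b ≫ a := by
          intro l'
          induction l' with
          | zero => simp
          | succ t iht =>
            rw [pow_succ, iht]
            show (b ≫ a) ≫ b ≫ a = b ≫ a
            rw [Category.assoc, reassoc_of% hab]
        have h6 : b ≫ a = 0 := by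
          rcases n with _ | n
          · rw [pow_zero] at hn
            exact (IsZero.iff_id_eq_zero _).2 hn |>.eq_of_src _ _
          · rw [← h5 n]; exact hn
        refine hZ0 ((IsZero.iff_id_eq_zero Z).2 ?_)
        have h7 := congrArg (fun x => a ≫ x ≫ b) h6
        simp only [Category.assoc, hab, zero_comp, comp_zero, Category.comp_id] at h7
        exact h7
    have h4 : ∑ l : {l : κ // Nonempty (g l ≅ Z)}, π (c l.1 : End Z) = π (if i = i' then (𝟙 Z : End Z) else 0) := by
      rw [← h2, ← h1, map_sum]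
      rw [← Finset.sum_subtype (Finset.univ.filter fun l => Nonempty (g l ≅ Z)) (fun x => by simp) fun l => π (c l : End Z)]
      exact Finset.sum_filter_of_ne fun l _ hne => by_contra fun hl => hne (h3 l hl)
    have h8 : ∀ l : {l : κ // Nonempty (g l ≅ Z)}, B l i' * A i l = π (c l.1 : End Z) := fun l => by
      rw [← map_mul]
      refine congrArg π ?_
      show (_ ≫ _ : Z ⟶ Z) = _
      simp [c, s, q', pr]
    rw [Finset.sum_congr rfl fun l _ => h8 l, h4]
    split_ifs
    exacts [map_one π, map_zero π]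
  -- linear algebra over the residues
  let T : ({i : ι // Nonempty (f i ≅ Z)} → m.ringCon.Quotient) →ₗ[m.ringCon.Quotient]
      ({l : κ // Nonempty (g l ≅ Z)} → m.ringCon.Quotient) :=
    { toFun := fun x l => ∑ i, x i * B l i
      map_add' := fun x y => funext fun l => by simp [add_mul, Finset.sum_add_distrib]
      map_smul' := fun c x => funext fun l => by simp [Finset.mul_sum, mul_assoc] }
  have hT : Function.Injective T := (injective_iff_map_eq_zero T).2 fun x hx => funext fun i => by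
    have h := congrArg (fun y => ∑ l, y l * A i l) hx
    simp only [T, LinearMap.coe_mk, AddHom.coe_mk, Finset.sum_mul, Pi.zero_apply, zero_mul,
      Finset.sum_const_zero, mul_assoc] at h
    rw [Finset.sum_comm] at h
    simp only [← Finset.mul_sum, key, mul_ite, mul_one, mul_zero, Finset.sum_ite_eq, Finset.mem_univ, if_true] at h
    exact h
  have := LinearMap.finrank_le_finrank_of_injective hT
  rw [Module.finrank_fintype_fun_eq_card, Module.finrank_fintype_fun_eq_card] at this
  simpa [cnt, Nat.card_eq_fintype_card] using this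

omit [IsIntegral X] [IsLocallyNoetherian X] in
/-- Counts determine the summands. -/
theorem isRetract_of_cnt_le {ι κ : Type} [Finite ι] [Finite κ] (f : ι → X.Modules) (g : κ → X.Modules)
    (h : ∀ i, cnt f (f i) ≤ cnt g (f i)) : IsRetract (∐ f) (∐ g) := by
  classical
  haveI := Fintype.ofFinite ι
  haveI := Fintype.ofFinite κ
  let a : ι → Skeleton X.Modules := fun i => toSkeleton (f i)
  let b : κ → Skeleton X.Modules := fun i => toSkeleton (g i)
  have hle : ∀ c, Fintype.card {i // a i = c} ≤ Fintype.card {l // b l = c} := fun c => by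
    rcases isEmpty_or_nonempty {i // a i = c} with he | ⟨⟨i, hi⟩⟩
    · simp
    · have hc := h i
      simp only [cnt, Nat.card_eq_fintype_card] at hc
      refine le_trans (le_of_eq ?_) (hc.trans (le_of_eq ?_))
      · exact Fintype.card_congr (Equiv.subtypeEquivRight fun x => by
          rw [← hi]; exact toSkeleton_eq_toSkeleton_iff)
      · exact Fintype.card_congr (Equiv.subtypeEquivRight fun x => by
          rw [← hi]; exact toSkeleton_eq_toSkeleton_iff.symm)
  let σ := fun c => (Function.Embedding.nonempty_of_card_le (hle c)).some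
  let τ : ι → κ := fun i => (σ (a i) ⟨i, rfl⟩).1
  have hτ : ∀ i, b (τ i) = a i := fun i => (σ (a i) ⟨i, rfl⟩).2
  refine isRetract_reindex f g τ (fun i i' hii => ?_) fun i => (toSkeleton_eq_toSkeleton_iff.1 (hτ i)).some.symm
  have hc : a i = a i' := by rw [← hτ i, ← hτ i', hii]
  have key : ∀ c c' (x : {i // a i = c}) (y : {i // a i = c'}), c = c' → (σ c x).1 = (σ c' y).1 → x.1 = y.1 := by
    intro c c' x y h hxy
    subst h
    exact congrArg Subtype.val ((σ c).injective (Subtype.ext hxy))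
  exact key _ _ ⟨i, rfl⟩ ⟨i', rfl⟩ hc hii

omit [IsIntegral X] [IsLocallyNoetherian X] in
theorem nonempty_iso_of_cnt_eq {ι κ : Type} [Finite ι] [Finite κ] (f : ι → X.Modules) (g : κ → X.Modules)
    (h : ∀ Z, cnt f Z = cnt g Z) : Nonempty ((∐ f) ≅ ∐ g) := by
  classical
  haveI := Fintype.ofFinite ι
  haveI := Fintype.ofFinite κ
  have hcard : ∀ c : Skeleton X.Modules, Fintype.card {i // toSkeleton (f i) = c} = Fintype.card {l // toSkeleton (g l) = c} :=
    fun c => by
      have hc := h ((fromSkeleton _).obj c)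
      simp only [cnt, Nat.card_eq_fintype_card] at hc
      have key : ∀ M : X.Modules, toSkeleton M = c ↔ Nonempty (M ≅ (fromSkeleton _).obj c) := fun M => toSkeleton_eq_iff
      refine (Fintype.card_congr (Equiv.subtypeEquivRight fun x => key (f x))).trans (hc.trans ?_)
      exact (Fintype.card_congr (Equiv.subtypeEquivRight fun x => key (g x))).symm
  let ε : ι ≃ κ := Equiv.ofFiberEquiv fun c => Fintype.equivOfCardEq (hcard c)
  have hε : ∀ i, toSkeleton (g (ε i)) = toSkeleton (f i) := fun i => Equiv.ofFiberEquiv_map (fun c => Fintype.equivOfCardEq (hcard c)) i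
  exact ⟨Sigma.whiskerEquiv ε fun i => (toSkeleton_eq_toSkeleton_iff.1 (hε i)).some⟩

end Bundles

end Groth.L21.Weil
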