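import Groth.Agent.L21.Weil.Closed
import Groth.Agent.L21.Bundle.Hom
import Groth.Agent.L16.HomSh.Adjunction
import Groth.Agent.L15.Ref.Stalk

/-!
Duals of finite-type tensor families.
-/

set_option autoImplicit false
set_option backward.isDefEq.respectTransparency false
set_option linter.style.haveILetI false
universe u

open CategoryTheory CategoryTheory.Limits AlgebraicGeometry

noncomputable section

namespace Groth.L21.Weil

open Groth.L00.Tensor
open Groth.L21.Bundle

variable {X : Scheme.{u}}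

/-- The dual, as a sheaf of homomorphisms. -/
def D (M : X.Modules) : X.Modules := Groth.L16.HomSh.homMod M (Coh.structureModule X)

/-- Evaluation. -/
def evD (M : X.Modules) : (tensorLeftF M).obj (D M) ⟶ Coh.structureModule X :=
  (Groth.L16.HomSh.tensorHomAdj M).counit.app (Coh.structureModule X)

/-- Transpose. -/
def Dmap {M N : X.Modules} (f : M ⟶ N) : D N ⟶ D M :=
  (Groth.L16.HomSh.tensorHomAdj M).homEquiv (D N) (Coh.structureModule X) ((tensorRightF (D N)).map f ≫ evD N)

theorem symm_Dmap {M N : X.Modules} (f : M ⟶ N) :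
    ((Groth.L16.HomSh.tensorHomAdj M).homEquiv (D N) (Coh.structureModule X)).symm (Dmap f) =
      (tensorRightF (D N)).map f ≫ evD N :=
  Equiv.symm_apply_apply _ _

theorem Dmap_id (M : X.Modules) : Dmap (𝟙 M) = 𝟙 (D M) := by
  apply ((Groth.L16.HomSh.tensorHomAdj M).homEquiv _ _).symm.injective
  rw [symm_Dmap, CategoryTheory.Functor.map_id]
  refine (Category.id_comp _).trans ?_
  exact ((Groth.L16.HomSh.tensorHomAdj M).homEquiv_counit _ _ (𝟙 (D M))).trans
    (by rw [CategoryTheory.Functor.map_id]; exact Category.id_comp _) |>.symm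

theorem Dmap_comp {L M N : X.Modules} (f : L ⟶ M) (g : M ⟶ N) : Dmap (f ≫ g) = Dmap g ≫ Dmap f := by
  apply ((Groth.L16.HomSh.tensorHomAdj L).homEquiv _ _).symm.injective
  rw [symm_Dmap]
  refine Eq.trans ?_ ((Groth.L16.HomSh.tensorHomAdj L).homEquiv_naturality_left_symm (Dmap g) (Dmap f)).symm
  rw [symm_Dmap f]
  have h := symm_Dmap g
  rw [(Groth.L16.HomSh.tensorHomAdj M).homEquiv_counit] at h
  change tensorMap (f ≫ g) (𝟙 (D N)) ≫ evD N = tensorMap (𝟙 L) (Dmap g) ≫ tensorMap f (𝟙 (D M)) ≫ evD M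
  change tensorMap (𝟙 M) (Dmap g) ≫ evD M = tensorMap g (𝟙 (D N)) ≫ evD N at h
  rw [← Category.assoc, ← tensorMap_comp, Category.id_comp, Category.comp_id]
  conv_rhs => rw [show tensorMap f (Dmap g) = tensorMap f (𝟙 (D N)) ≫ tensorMap (𝟙 M) (Dmap g) by
    rw [← tensorMap_comp, Category.comp_id, Category.id_comp]]
  rw [Category.assoc, h, ← Category.assoc, ← tensorMap_comp, Category.id_comp]

theorem Dmap_add {M N : X.Modules} (f g : M ⟶ N) : Dmap (f + g) = Dmap f + Dmap g := by
  haveI : (Groth.L16.HomSh.homModF M).Additive := ⟨fun {_ _ g g'} => Groth.L16.HomSh.post_add g g'⟩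
  haveI : (tensorLeftF M).Additive := (Groth.L16.HomSh.tensorHomAdj M).left_adjoint_additive
  haveI : (tensorRightF (D N)).Additive := by
    haveI : PreservesColimitsOfSize.{0, 0} (tensorRightF (D N)) := preservesColimitsOfSize_shrink.{0, u, 0, u} _
    haveI : PreservesColimitsOfShape (Discrete WalkingPair) (tensorRightF (D N)) := inferInstance
    haveI := preservesBinaryBiproducts_of_preservesBinaryCoproducts (tensorRightF (D N))
    exact Functor.additive_of_preservesBinaryBiproducts _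
  show ((Groth.L16.HomSh.tensorHomAdj M).homEquiv _ _) _ = _
  rw [Functor.map_add, Preadditive.add_comp]
  exact map_add ((Groth.L16.HomSh.tensorHomAdj M).homAddEquiv _ _) _ _

theorem Dmap_sum {M N : X.Modules} {ι : Type} (s : Finset ι) (f : ι → (M ⟶ N)) :
    Dmap (∑ i ∈ s, f i) = ∑ i ∈ s, Dmap (f i) :=
  map_sum (AddMonoidHom.mk' (Dmap (M := M) (N := N)) Dmap_add) f s

theorem IsRetract.dual {A B : X.Modules} (h : IsRetract A B) : IsRetract (D A) (D B) := by
  obtain ⟨j, p, hjp⟩ := h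
  exact ⟨Dmap p, Dmap j, by rw [← Dmap_comp, hjp, Dmap_id]⟩

theorem Ret.dual {β : Type} {B : β → X.Modules} {M : X.Modules} (h : Ret B M) : Ret (fun b => D (B b)) (D M) := by
  classical
  obtain ⟨m, a, ha⟩ := h
  refine ⟨m, a, ha.dual.trans ?_⟩
  let f : Fin m → X.Modules := fun i => B (a i)
  let pr : ∀ i, (∐ f) ⟶ f i := fun i => Sigma.desc fun l => if h : l = i then eqToHom (by rw [h]) else 0
  have htot : ∑ i, pr i ≫ Sigma.ι f i = 𝟙 (∐ f) := by
    refine Sigma.hom_ext _ _ fun l' => ?_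
    rw [Preadditive.comp_sum, Category.comp_id, Finset.sum_eq_single l']
    · simp [pr]
    · intro l _ hl; simp [pr, Ne.symm hl]
    · intro h; exact absurd (Finset.mem_univ _) h
  refine ⟨∑ i, Dmap (Sigma.ι f i) ≫ Sigma.ι (fun i => D (f i)) i, Sigma.desc fun i => Dmap (pr i), ?_⟩
  rw [Preadditive.sum_comp, Finset.sum_congr rfl (fun i _ => by
    rw [Category.assoc, Sigma.ι_desc, ← Dmap_comp] : ∀ i ∈ Finset.univ, _ = Dmap (pr i ≫ Sigma.ι f i)),
    ← Dmap_sum, htot, Dmap_id]

/-- Comparison with the sheaf Hom of the duality lane. -/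
def DIso (M : X.Modules) [ModSite.HasSheafHom (O := X.sheaf) M] : D M ≅ Groth.L17.Duality.dual M :=
  ((Groth.L16.HomSh.tensorHomAdj M).rightAdjointUniq
    ((ModSite.sheafHomAdj (O := X.sheaf) M).ofNatIsoLeft
      ((Groth.L17.ChangeRings.tensorRightBiIso M).symm ≪≫ tensorFlipIso M))).app (Coh.structureModule X)

/-- Comparison with the dual of the prelude. -/
def refDualIso (M : X.Modules) : RefHull.dual M ≅ D M :=
  haveI := Groth.L15.Ref.isIso_toHomMod (M := M) (N := Coh.structureModule X)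
  asIso (Groth.L15.Ref.toHomMod M (Coh.structureModule X))

theorem nonempty_dual_structure : Nonempty (D (Coh.structureModule X) ≅ Coh.structureModule X) := by
  haveI := Groth.L17.Duality.hasSheafHom (Coh.structureModule X)
  exact ⟨DIso _ ≪≫ (homModTwist (tensorUnitRight (Coh.structureModule X))).app _ ≪≫ tensorUnitRight _⟩

theorem nonempty_dual_tensor {A : X.Modules} (B : X.Modules) (hA : FlatMod.IsFinLocFree A) :
    Nonempty (CohB1.tensorMod (D B) (D A) ≅ D (CohB1.tensorMod B A)) := by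
  haveI := Groth.L17.Duality.hasSheafHom A
  haveI := Groth.L17.Duality.hasSheafHom B
  haveI := Groth.L17.Duality.hasSheafHom (CohB1.tensorMod B A)
  exact ⟨tensorIso (DIso B) (DIso A) ≪≫ (Groth.L17.Duality.tensorDualIso A hA).app _ ≪≫
    (Groth.L17.Duality.homTensorIso A B).app (Coh.structureModule X) ≪≫ (DIso _).symm⟩

variable [IsIntegral X] [IsLocallyNoetherian X]

theorem isFinLocFreeOfRank_D {r : ℕ} {E : X.Modules} (hE : FlatMod.IsFinLocFreeOfRank r E) :
    FlatMod.IsFinLocFreeOfRank r (D E) := by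
  haveI := Groth.L17.Duality.hasSheafHom E
  intro x
  obtain ⟨U, hxU, ⟨e⟩⟩ := isFinLocFreeOfRank_dual hE x
  exact ⟨U, hxU, ⟨(Scheme.Modules.restrictFunctor U.ι).mapIso (DIso E) ≪≫ e⟩⟩

theorem nonempty_D_D {r : ℕ} {E : X.Modules} (hE : FlatMod.IsFinLocFreeOfRank r E) : Nonempty (D (D E) ≅ E) := by
  haveI := Groth.L17.Duality.hasSheafHom E
  haveI := Groth.L17.Duality.hasSheafHom (D E)
  haveI := Groth.L17.Duality.hasSheafHom (Groth.L17.Duality.dual E)
  exact ⟨DIso (D E) ≪≫ (Groth.L17.Duality.homCongr (DIso E)).app _ ≪≫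
    (homDualTwist E (Groth.L22.CurveDeg.isFinLocFree_of_rank hE)).app _ ≪≫ tensorUnitLeft E⟩

theorem Closed.dual {E : X.Modules} (hEb : IsBundle E) (h : Closed E) : Closed (D E) := by
  obtain ⟨s, B, hB, h1, h2⟩ := h
  refine ⟨s, fun b => D (B b), fun b => ?_, h1.dual.retract (IsRetract.of_iso nonempty_dual_structure.some.symm),
    fun b => (h2 b).dual.retract ?_⟩
  · obtain ⟨r, hr⟩ := hB b
    exact ⟨r, isFinLocFreeOfRank_D hr⟩
  · obtain ⟨r, hr⟩ := hEb
    exact IsRetract.of_iso (nonempty_dual_tensor (B b) (Groth.L22.CurveDeg.isFinLocFree_of_rank hr)).some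

theorem Closed.of_iso {E F : X.Modules} (e : E ≅ F) (h : Closed E) : Closed F := by
  obtain ⟨s, B, hB, h1, h2⟩ := h
  exact ⟨s, B, hB, h1, fun b => (h2 b).retract (IsRetract.of_iso (tensorIso (Iso.refl _) e.symm))⟩

end Groth.L21.Weil
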