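import Groth.Agent.L21.Weil.Slope
import Groth.Agent.L21.Weil.Line
import Groth.Agent.L21.Bundle.Embed
import Groth.Agent.L21.RR.PointPow

/-!
Slopes of subbundles of tensor products in genus one.
-/

set_option autoImplicit false
set_option backward.isDefEq.respectTransparency false
set_option linter.style.haveILetI false
universe u

open CategoryTheory CategoryTheory.Limits AlgebraicGeometry

noncomputable section

namespace Groth.L21.Weil

open Groth.L00.Tensor
open Groth.L21.Bundle

variable {X : Scheme.{u}} [IsIntegral X] [IsLocallyNoetherian X]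
  (k : Type u) [Field k] [X.Over (Spec (CommRingCat.of k))] [IsProper (X ↘ Spec (CommRingCat.of k))]
  (hreg : ∀ x : X, IsRegularLocalRing (X.presheaf.stalk x)) (hd : topologicalKrullDim X = 1)

attribute [local irreducible] dg rk

include hreg hd in
theorem ub_line {L : X.Modules} (hL : PicF.IsInvertible L) : UB k L (Curv2.deg k X L 1) := by
  intro G i hi hG
  haveI := hi
  have hl1 := locFree_one hL
  have hcL := isCoh_of_rank hl1
  have hG' := locFree_of_mono hreg hd.le i hG hl1
  obtain ⟨e1, e2⟩ := add_cokernel k hd.le i hG hcL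
  rw [rk_eq hl1] at e1
  rw [dg_eq k hl1]
  rcases Nat.eq_zero_or_pos (rk G) with h | h
  · rw [h] at hG' ⊢
    rw [(zero_facts k hd.le (isZero_of_rank_zero hG')).2]
    simp
  · have hC : rk (cokernel i) = 0 := by omega
    have := (dg_nonneg_of_rk_eq_zero hd.le k (coh_cokernel hG hcL i) hC).1
    rw [show rk G = 1 by omega]
    push_cast
    omega

include hd in
theorem exists_deg_of_point {P : X} (hP : IsClosed ({P} : Set X)) (hreg : ∀ x : X, IsRegularLocalRing (X.presheaf.stalk x))
    (hres : @Module.finrank k (X.residueField P) _ _ (Curv2.resAlgebra k X P).toModule = 1) (n : ℤ) :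
    ∃ L : X.Modules, PicF.IsInvertible L ∧ Curv2.deg k X L 1 = n := by
  letI := Curv2.resAlgebra k X P
  obtain ⟨hI, hχ⟩ := Groth.L21.RR.idealMod_point_pow k hd hP (hreg P) n.natAbs
  rw [hres] at hχ
  let I := ClSub.idealMod (Scheme.IdealSheafData.vanishingIdeal ⟨{P}, hP⟩ ^ n.natAbs)
  have hdI : Curv2.deg k X I 1 = -(n.natAbs : ℤ) := by
    simp only [Curv2.deg]
    push_cast at hχ ⊢
    linear_combination hχ
  rcases Int.natAbs_eq n with h | h
  · obtain ⟨L', hL', ⟨e⟩⟩ := Groth.L08.Cube.exists_inverse hI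
    exact ⟨L', hL', by rw [deg_inverse k hd hI hL' e, hdI]; omega⟩
  · exact ⟨I, hI, by omega⟩

variable [Smooth (X ↘ Spec (CommRingCat.of k))]

include hreg hd in
/-- Slopes in a tensor product of two semistable bundles of genus one exceed the sum by at most four. -/
theorem dg_sub_tensor_le (h0 : Groth.L21.RR.h k 0 (Coh.structureModule X) = 1) (hg : Curv2.genus k X = 1)
    {P : X} (hP : IsClosed ({P} : Set X))
    (hres : @Module.finrank k (X.residueField P) _ _ (Curv2.resAlgebra k X P).toModule = 1)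
    {r s t : ℕ} (hr : 0 < r) (hs : 0 < s) {F F' G : X.Modules}
    (hF : FlatMod.IsFinLocFreeOfRank r F) (hF' : FlatMod.IsFinLocFreeOfRank s F')
    (hFb : Bd k F (dg k F) r) (hFb' : Bd k F' (dg k F') s)
    (hG : FlatMod.IsFinLocFreeOfRank t G) (i : G ⟶ CohB1.tensorMod F F') [Mono i] :
    dg k G * (r : ℤ) * (s : ℤ) ≤ (t : ℤ) * (4 * (r : ℤ) * (s : ℤ) + dg k F * (s : ℤ) + dg k F' * (r : ℤ)) := by
  classical
  obtain ⟨L, hL, hdL⟩ := exists_deg_of_point k hd hP hreg hres (dg k F / (r : ℤ) + 2)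
  obtain ⟨L', hL', hdL'⟩ := exists_deg_of_point k hd hP hreg hres (dg k F' / (s : ℤ) + 2)
  have hr' : (0 : ℤ) < r := by exact_mod_cast hr
  have hs' : (0 : ℤ) < s := by exact_mod_cast hs
  have b1 := Int.emod_add_mul_ediv (dg k F) (r : ℤ)
  have b2 := Int.emod_nonneg (dg k F) hr'.ne'
  have b3 := Int.emod_lt_of_pos (dg k F) hr'
  have c1 := Int.emod_add_mul_ediv (dg k F') (s : ℤ)
  have c2 := Int.emod_nonneg (dg k F') hs'.ne'
  have c3 := Int.emod_lt_of_pos (dg k F') hs'
  obtain ⟨M, -, j, hj⟩ := exists_mono_copies k hd h0 hr hF hFb hL hP hres (by rw [hdL, hg]; push_cast; nlinarith)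
  obtain ⟨M', -, j', hj'⟩ := exists_mono_copies k hd h0 hs hF' hFb' hL' hP hres (by rw [hdL', hg]; push_cast; nlinarith)
  haveI := hj
  haveI := hj'
  have hLL := rk_tensor (locFree_one hL) (locFree_one hL')
  rw [one_mul] at hLL
  have hLi := isInvertible_of_rank hLL
  have hdLL : Curv2.deg k X (CohB1.tensorMod L L') 1 = Curv2.deg k X L 1 + Curv2.deg k X L' 1 := by
    rw [dg_eq k hLL, dg_tensor k hd (locFree_one hL) (locFree_one hL'), dg_eq k (locFree_one hL),
      dg_eq k (locFree_one hL')]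
    push_cast
    ring
  obtain ⟨m, a, q, p, hqp⟩ := Ret.tensor (Ret.sigma fun _ : Fin M => ret_member (fun _ : Unit => L) ())
    (Ret.sigma fun _ : Fin M' => ret_member (fun _ : Unit => L') ())
  haveI : Mono q := mono_of_mono_fac hqp
  haveI := mono_tensor (Groth.L29.DC.isFinLocFree_coprod_fin M (fun _ : Fin M => L)
    (fun _ => Groth.L22.CurveDeg.isFinLocFree_of_rank (locFree_one hL)))
    (Groth.L22.CurveDeg.isFinLocFree_of_rank hF') j j'
  have hUB : UB k (CohB1.tensorMod F F') (Curv2.deg k X L 1 + Curv2.deg k X L' 1) := by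
    refine UB.of_mono k ?_ (tensorMap j j')
    refine UB.of_mono k ?_ q
    exact UB.sigma k hd (fun l => isCoh_of_rank hLL) fun l => hdLL ▸ ub_line k hreg hd hLi
  have h1 := hUB G i inferInstance (isCoh_of_rank hG)
  rw [rk_eq hG, hdL, hdL'] at h1
  have h2 := mul_le_mul_of_nonneg_right h1 (mul_nonneg hr'.le hs'.le)
  have h3 : (dg k F / (r : ℤ) + 2) * r ≤ dg k F + 2 * r := by nlinarith
  have h4 : (dg k F' / (s : ℤ) + 2) * s ≤ dg k F' + 2 * s := by nlinarith
  have h5 := mul_le_mul_of_nonneg_left (add_le_add (mul_le_mul_of_nonneg_right h3 hs'.le)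
    (mul_le_mul_of_nonneg_right h4 hr'.le)) (Int.natCast_nonneg t)
  linear_combination h2 + h5

end Groth.L21.Weil
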